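import Mathlib

/-! A group of order `2p³` embedded with trivial centraliser in `PSL_n(p)` for infinitely many `n`. -/

set_option autoImplicit false
set_option linter.unusedVariables false
set_option linter.unusedSectionVars false

namespace Cfsg.Agent.Lib.Known3.SelfCent

open Matrix
open scoped MatrixGroups

section mats

variable (F : Type*) [Field F] (k : ℕ)

/-- The index set. -/
abbrev II := Fin k ⊕ Fin (k + 1)

/-- The first Kronecker map. -/
def matA : Matrix (Fin (k + 1)) (Fin k) F := fun i j => if i.val = j.val then 1 else 0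
/-- The second Kronecker map. -/
def matB : Matrix (Fin (k + 1)) (Fin k) F := fun i j => if i.val = j.val + 1 then 1 else 0
/-- An extra map, making the action faithful. -/
def matC : Matrix (Fin (k + 1)) (Fin k) F := fun i j => if i.val = 0 ∧ j.val + 1 = k then 1 else 0

variable {F k}

/-- The lower-left block. -/
def LL (v : Fin 3 → F) : Matrix (Fin (k + 1)) (Fin k) F := v 0 • matA F k + v 1 • matB F k + v 2 • matC F k

lemma LL_add (v w : Fin 3 → F) : (LL (v + w) : Matrix (Fin (k + 1)) (Fin k) F) = LL v + LL w := by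
  simp only [LL, Pi.add_apply, add_smul]
  abel

lemma LL_neg (v : Fin 3 → F) : (LL (-v) : Matrix (Fin (k + 1)) (Fin k) F) = - LL v := by
  simp only [LL, Pi.neg_apply, neg_smul]
  abel

lemma LL_zero : (LL 0 : Matrix (Fin (k + 1)) (Fin k) F) = 0 := by
  simp [LL]

/-- The unipotent elements. -/
def uu (v : Fin 3 → F) : Matrix (II k) (II k) F := fromBlocks 1 0 (LL v) 1

/-- The involution. -/
def tt : Matrix (II k) (II k) F := fromBlocks 1 0 0 (-1)

lemma uu_mul (v w : Fin 3 → F) : (uu v * uu w : Matrix (II k) (II k) F) = uu (v + w) := by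
  simp only [uu, fromBlocks_multiply, LL_add]
  simp [add_comm]

lemma uu_zero : (uu 0 : Matrix (II k) (II k) F) = 1 := by
  simp [uu, LL_zero]

lemma tt_tt : (tt * tt : Matrix (II k) (II k) F) = 1 := by
  simp [tt, fromBlocks_multiply]

lemma tt_uu (v : Fin 3 → F) : (tt * uu v * tt : Matrix (II k) (II k) F) = uu (-v) := by
  simp [tt, uu, fromBlocks_multiply, LL_neg]

lemma det_uu (v : Fin 3 → F) : (uu v : Matrix (II k) (II k) F).det = 1 := by
  simp [uu, Matrix.det_fromBlocks_zero₁₂]

lemma det_tt (hk : Odd k) : (tt : Matrix (II k) (II k) F).det = 1 := by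
  have h1 : Even (k + 1) := hk.add_one
  simp [tt, Matrix.det_fromBlocks_zero₁₂, Matrix.det_neg, h1.neg_one_pow]

lemma uu_pow (v : Fin 3 → F) (j : ℕ) : (uu v : Matrix (II k) (II k) F) ^ j = uu (j • v) := by
  induction j with
  | zero => simp [uu_zero]
  | succ j ih => rw [pow_succ, ih, uu_mul, succ_nsmul]

lemma trace_tt : (tt : Matrix (II k) (II k) F).trace = -1 := by
  simp [tt, Matrix.trace, Fintype.sum_sum_type]

/-- Commuting with the `A`, `B` maps forces scalars. -/
lemma scalar_of_comm (hk : 1 ≤ k) (P : Matrix (Fin k) (Fin k) F) (Q : Matrix (Fin (k + 1)) (Fin (k + 1)) F)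
    (h1 : Q * matA F k = matA F k * P) (h2 : Q * matB F k = matB F k * P) :
    ∃ c : F, P = c • 1 ∧ Q = c • 1 := by
  classical
  let q : ℕ → ℕ → F := fun a b => if h : a ≤ k ∧ b ≤ k then Q ⟨a, by omega⟩ ⟨b, by omega⟩ else 0
  have hq : ∀ i j : Fin (k + 1), Q i j = q i.val j.val := by
    intro i j
    have h : i.val ≤ k ∧ j.val ≤ k := ⟨by omega, by omega⟩
    simp [q, h]
  have e1 : ∀ (i : Fin (k + 1)) (j : Fin k), (Q * matA F k) i j = Q i j.castSucc := by
    intro i j
    rw [Matrix.mul_apply, Finset.sum_eq_single j.castSucc]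
    · simp [matA]
    · intro l _ hl
      have : l.val ≠ j.val := fun h => hl (Fin.ext h)
      simp [matA, this]
    · simp
  have e2 : ∀ (i : Fin k) (j : Fin k), (matA F k * P) i.castSucc j = P i j := by
    intro i j
    rw [Matrix.mul_apply, Finset.sum_eq_single i]
    · simp [matA]
    · intro l _ hl
      have : i.val ≠ l.val := fun h => hl (Fin.ext h.symm)
      simp [matA, this]
    · simp
  have e3 : ∀ (j : Fin k), (matA F k * P) (Fin.last k) j = 0 := by
    intro j
    rw [Matrix.mul_apply]
    apply Finset.sum_eq_zero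
    intro l _
    have : (Fin.last k).val ≠ l.val := by
      have := l.2
      simp only [Fin.val_last]
      omega
    have h3 : matA F k (Fin.last k) l = 0 := if_neg this
    rw [h3, zero_mul]
  have e4 : ∀ (i : Fin (k + 1)) (j : Fin k), (Q * matB F k) i j = Q i j.succ := by
    intro i j
    rw [Matrix.mul_apply, Finset.sum_eq_single j.succ]
    · simp [matB]
    · intro l _ hl
      have : l.val ≠ j.val + 1 := fun h => hl (Fin.ext (by simpa using h))
      simp [matB, this]
    · simp
  have e5 : ∀ (i : Fin k) (j : Fin k), (matB F k * P) i.succ j = P i j := by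
    intro i j
    rw [Matrix.mul_apply, Finset.sum_eq_single i]
    · simp [matB]
    · intro l _ hl
      have : i.val + 1 ≠ l.val + 1 := fun h => hl (Fin.ext (by omega))
      simp [matB]
      intro h3
      omega
    · simp
  have e6 : ∀ (j : Fin k), (matB F k * P) 0 j = 0 := by
    intro j
    rw [Matrix.mul_apply]
    apply Finset.sum_eq_zero
    intro l _
    simp [matB]
  -- relations in terms of q
  have r1 : ∀ a b (ha : a < k) (hb : b < k), q a b = P ⟨a, ha⟩ ⟨b, hb⟩ := by
    intro a b ha hb
    have h := congrFun (congrFun h1 (Fin.castSucc ⟨a, ha⟩)) ⟨b, hb⟩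
    rw [e1, e2, hq] at h
    exact h
  have r2 : ∀ b, b < k → q k b = 0 := by
    intro b hb
    have h := congrFun (congrFun h1 (Fin.last k)) ⟨b, hb⟩
    rw [e1, e3, hq] at h
    exact h
  have r3 : ∀ a b (ha : a < k) (hb : b < k), q (a + 1) (b + 1) = P ⟨a, ha⟩ ⟨b, hb⟩ := by
    intro a b ha hb
    have h := congrFun (congrFun h2 (Fin.succ ⟨a, ha⟩)) ⟨b, hb⟩
    rw [e4, e5, hq] at h
    exact h
  have r4 : ∀ b, b < k → q 0 (b + 1) = 0 := by
    intro b hb
    have h := congrFun (congrFun h2 (0 : Fin (k + 1))) ⟨b, hb⟩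
    rw [e4, e6, hq] at h
    exact h
  have step : ∀ a b, a < k → b < k → q (a + 1) (b + 1) = q a b := fun a b ha hb => by rw [r3 a b ha hb, r1 a b ha hb]
  have upper : ∀ d a, a + d + 1 ≤ k → q a (a + d + 1) = 0 := by
    intro d a
    induction a with
    | zero =>
      intro h
      have := r4 d (by omega)
      simpa using this
    | succ a ih =>
      intro h
      have h3 := step a (a + d + 1) (by omega) (by omega)
      have e : a + 1 + d + 1 = a + d + 1 + 1 := by ring
      rw [e, h3]
      exact ih (by omega)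
  have lower' : ∀ e a b, a + e = k → b < a → q a b = 0 := by
    intro e
    induction e with
    | zero =>
      intro a b h hb
      have : a = k := by omega
      subst this
      exact r2 b hb
    | succ e ih =>
      intro a b h hb
      have h3 := step a b (by omega) (by omega)
      rw [← h3]
      exact ih (a + 1) (b + 1) (by omega) (by omega)
  have diag : ∀ a, a ≤ k → q a a = q 0 0 := by
    intro a
    induction a with
    | zero => intro _; rfl
    | succ a ih =>
      intro h
      rw [step a a (by omega) (by omega)]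
      exact ih (by omega)
  refine ⟨q 0 0, ?_, ?_⟩
  · ext i j
    rw [← r1 i j i.2 j.2]
    by_cases hij : i = j
    · subst hij
      simp [diag i.val (by omega)]
    · have hne : i.val ≠ j.val := fun h => hij (Fin.ext h)
      simp only [Matrix.smul_apply, Matrix.one_apply_ne hij, smul_zero]
      rcases Nat.lt_or_gt_of_ne hne with h | h
      · obtain ⟨d, hd⟩ : ∃ d, j.val = i.val + d + 1 := ⟨j.val - i.val - 1, by omega⟩
        rw [hd]
        exact upper d i.val (by have := j.2; omega)
      · exact lower' (k - i.val) i.val j.val (by have := i.2; omega) h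
  · ext i j
    rw [hq]
    by_cases hij : i = j
    · subst hij
      simp [diag i.val (by omega)]
    · have hne : i.val ≠ j.val := fun h => hij (Fin.ext h)
      simp only [Matrix.smul_apply, Matrix.one_apply_ne hij, smul_zero]
      rcases Nat.lt_or_gt_of_ne hne with h | h
      · obtain ⟨d, hd⟩ : ∃ d, j.val = i.val + d + 1 := ⟨j.val - i.val - 1, by omega⟩
        rw [hd]
        exact upper d i.val (by have := j.2; omega)
      · exact lower' (k - i.val) i.val j.val (by have := i.2; omega) h

end mats

section groups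

variable (p : ℕ) [hp : Fact p.Prime]

/-- The normal subgroup. -/
abbrev NN := Multiplicative (Fin 3 → ZMod p)
/-- The complement. -/
abbrev GG := Multiplicative (ZMod 2)

lemma GG_cases (x : GG) : x = 1 ∨ x = Multiplicative.ofAdd (1 : ZMod 2) := by
  revert x
  decide

lemma GG_mul : (Multiplicative.ofAdd (1 : ZMod 2)) * (Multiplicative.ofAdd (1 : ZMod 2)) = 1 := by
  decide

lemma GG_ne : (Multiplicative.ofAdd (1 : ZMod 2)) ≠ 1 := by
  decide

/-- The action by inversion. -/
def act : GG →* MulAut (NN p) where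
  toFun x := if x = 1 then 1 else MulEquiv.inv (NN p)
  map_one' := by simp
  map_mul' x y := by
    rcases GG_cases x with rfl | rfl <;> rcases GG_cases y with rfl | rfl
    · simp
    · simp
    · simp
    · rw [GG_mul, if_pos rfl, if_neg GG_ne]
      ext v
      simp

/-- The group of order `2p³`. -/
abbrev HH := NN p ⋊[act p] GG

lemma card_HH : Nat.card (HH p) = 2 * p ^ 3 := by
  rw [Nat.card_congr SemidirectProduct.equivProd, Nat.card_prod]
  have h1 : Nat.card (NN p) = p ^ 3 := by
    rw [Nat.card_congr Multiplicative.toAdd, Nat.card_fun]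
    simp
  have h2 : Nat.card GG = 2 := by
    rw [Nat.card_congr Multiplicative.toAdd]
    simp
  rw [h1, h2, mul_comm]

variable {p} {k : ℕ}

/-- The normal subgroup in `SL`. -/
def f₁ : NN p →* Matrix.SpecialLinearGroup (II k) (ZMod p) where
  toFun v := ⟨uu v.toAdd, det_uu _⟩
  map_one' := Subtype.ext uu_zero
  map_mul' a b := Subtype.ext (uu_mul _ _).symm

/-- The involution in `SL`. -/
def tS (hk : Odd k) : Matrix.SpecialLinearGroup (II k) (ZMod p) := ⟨tt, det_tt hk⟩

lemma tS_tS (hk : Odd k) : (tS hk : Matrix.SpecialLinearGroup (II k) (ZMod p)) * tS hk = 1 := Subtype.ext tt_tt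

/-- The complement in `SL`. -/
def f₂ (hk : Odd k) : GG →* Matrix.SpecialLinearGroup (II k) (ZMod p) where
  toFun x := if x = 1 then 1 else tS hk
  map_one' := by simp
  map_mul' x y := by
    rcases GG_cases x with rfl | rfl <;> rcases GG_cases y with rfl | rfl
    · simp
    · simp
    · simp
    · rw [GG_mul, if_pos rfl, if_neg GG_ne, tS_tS]

lemma f₂_gen (hk : Odd k) : f₂ (p := p) hk (Multiplicative.ofAdd (1 : ZMod 2)) = tS hk := by
  change (if Multiplicative.ofAdd (1 : ZMod 2) = 1 then (1 : Matrix.SpecialLinearGroup (II k) (ZMod p)) else tS hk) = _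
  rw [if_neg GG_ne]

lemma cond_lift (hk : Odd k) (g : GG) :
    (f₁ (p := p) (k := k)).comp (act p g).toMonoidHom = (MulAut.conj (f₂ hk g)).toMonoidHom.comp f₁ := by
  rcases GG_cases g with rfl | rfl
  · refine MonoidHom.ext fun v => ?_
    simp [f₂, act]
  · refine MonoidHom.ext fun v => ?_
    have h1 : act p (Multiplicative.ofAdd (1 : ZMod 2)) = MulEquiv.inv (NN p) := by
      change (if Multiplicative.ofAdd (1 : ZMod 2) = 1 then (1 : MulAut (NN p)) else MulEquiv.inv (NN p)) = _
      rw [if_neg GG_ne]
    have h2 : f₂ (p := p) hk (Multiplicative.ofAdd (1 : ZMod 2)) = tS hk := f₂_gen hk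
    have h3 : (tS hk : Matrix.SpecialLinearGroup (II k) (ZMod p))⁻¹ = tS hk := inv_eq_of_mul_eq_one_right (tS_tS hk)
    simp only [MonoidHom.comp_apply, h1, h2, MulEquiv.toMonoidHom_eq_coe, MonoidHom.coe_coe, MulAut.conj_apply, h3]
    apply Subtype.ext
    exact (tt_uu _).symm

/-- The embedding in `SL`. -/
def PP (hk : Odd k) : HH p →* Matrix.SpecialLinearGroup (II k) (ZMod p) :=
  SemidirectProduct.lift f₁ (f₂ hk) (cond_lift hk)

lemma PP_inl (hk : Odd k) (v : NN p) : PP hk (SemidirectProduct.inl v) = f₁ v := SemidirectProduct.lift_inl _ _ _ v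

lemma PP_inr (hk : Odd k) (g : GG) : PP hk (SemidirectProduct.inr g : HH p) = f₂ hk g := SemidirectProduct.lift_inr _ _ _ g

/-- The embedding in `PSL`. -/
def qq (hk : Odd k) : HH p →* Matrix.ProjectiveSpecialLinearGroup (II k) (ZMod p) := (QuotientGroup.mk' _).comp (PP hk)

lemma qq_apply (hk : Odd k) (h : HH p) : qq hk h = QuotientGroup.mk (PP hk h) := rfl

lemma qq_inj (hp2 : p ≠ 2) (hk : Odd k) (hk3 : 3 ≤ k) : Function.Injective (qq (p := p) hk) := by
  have h2 : (2 : ZMod p) ≠ 0 := by
    intro h
    have : ((2 : ℕ) : ZMod p) = 0 := by exact_mod_cast h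
    rw [ZMod.natCast_eq_zero_iff] at this
    exact hp2 ((Nat.prime_dvd_prime_iff_eq hp.out Nat.prime_two).1 this)
  rw [injective_iff_map_eq_one]
  intro h hh
  rw [qq_apply, QuotientGroup.eq_one_iff, Matrix.SpecialLinearGroup.mem_center_iff] at hh
  obtain ⟨r, -, hr⟩ := hh
  rw [← SemidirectProduct.inl_left_mul_inr_right h, map_mul, PP_inl, PP_inr] at hr
  have a0 : Fin k := ⟨0, by omega⟩
  let i0 : Fin k := ⟨0, by omega⟩
  rcases GG_cases h.right with hg | hg
  · rw [hg] at hr
    have e : (((f₁ h.left * f₂ hk 1 : Matrix.SpecialLinearGroup (II k) (ZMod p))) : Matrix (II k) (II k) (ZMod p)) = uu h.left.toAdd := by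
      rw [map_one, mul_one]
      rfl
    have hr' : Matrix.scalar (II k) r = uu h.left.toAdd := by
      rw [← e, ← hr]
    have hr1 : r = 1 := by
      have := congrFun (congrFun hr' (Sum.inl i0)) (Sum.inl i0)
      simpa [uu] using this
    have hLL : ∀ (i : Fin (k + 1)) (j : Fin k), LL (k := k) h.left.toAdd i j = 0 := by
      intro i j
      have := congrFun (congrFun hr' (Sum.inr i)) (Sum.inl j)
      simpa [uu, Matrix.one_apply] using this.symm
    have hv : h.left.toAdd = 0 := by
      funext l
      fin_cases l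
      · have := hLL ⟨0, by omega⟩ ⟨0, by omega⟩
        have h3 : ¬ (0 + 1 = k) := by omega
        simpa [LL, matA, matB, matC, h3] using this
      · have := hLL ⟨1, by omega⟩ ⟨0, by omega⟩
        simpa [LL, matA, matB, matC] using this
      · have := hLL ⟨0, by omega⟩ ⟨k - 1, by omega⟩
        have h3 : k - 1 + 1 = k := by omega
        have h4 : ¬ (0 = k - 1) := by omega
        have h5 : ¬ (0 = k) := by omega
        simpa [LL, matA, matB, matC, h3, h4, h5] using this
    have hl : h.left = 1 := hv
    rw [← SemidirectProduct.inl_left_mul_inr_right h, hl, hg, map_one, map_one, one_mul]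
  · exfalso
    rw [hg] at hr
    have e : (((f₁ h.left * f₂ hk (Multiplicative.ofAdd (1 : ZMod 2)) : Matrix.SpecialLinearGroup (II k) (ZMod p))) : Matrix (II k) (II k) (ZMod p)) = uu h.left.toAdd * tt := by
      have h2 : f₂ (p := p) hk (Multiplicative.ofAdd (1 : ZMod 2)) = tS hk := f₂_gen hk
      rw [h2]
      rfl
    have hr' : Matrix.scalar (II k) r = uu h.left.toAdd * tt := by
      rw [← e, ← hr]
    have hr1 : r = 1 := by
      have := congrFun (congrFun hr' (Sum.inl i0)) (Sum.inl i0)
      simpa [uu, tt, fromBlocks_multiply] using this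
    have hr2 : r = -1 := by
      have := congrFun (congrFun hr' (Sum.inr ⟨0, by omega⟩)) (Sum.inr ⟨0, by omega⟩)
      simpa [uu, tt, fromBlocks_multiply] using this
    apply h2
    have : (1 : ZMod p) = -1 := hr1.symm.trans hr2
    linear_combination this

/-- A unipotent scalar relation. -/
lemma r_eq_one_of_uu {X X' : Matrix (II k) (II k) (ZMod p)} (hX : X' * X = 1) (hX' : X * X' = 1) {v : Fin 3 → ZMod p} {r : ZMod p} (hr : X * uu v = r • (uu v * X)) : r = 1 := by
  have h1 : X * uu v * X' = r • uu v := by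
    rw [hr, Matrix.smul_mul, Matrix.mul_assoc, hX', Matrix.mul_one]
  have h3 : (X * uu v * X') ^ p = 1 := by
    have : ∀ j : ℕ, (X * uu v * X') ^ j = X * (uu v) ^ j * X' := by
      intro j
      induction j with
      | zero => simp [hX']
      | succ j ih =>
        rw [pow_succ, ih, pow_succ]
        calc X * uu v ^ j * X' * (X * uu v * X') = X * uu v ^ j * (X' * X) * uu v * X' := by simp only [Matrix.mul_assoc]
          _ = _ := by rw [hX, Matrix.mul_one]; simp only [Matrix.mul_assoc]
    rw [this, uu_pow]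
    have h5 : (p • v) = 0 := by
      funext i
      simp
    rw [h5, uu_zero, Matrix.mul_one, hX']
  rw [h1, smul_pow, uu_pow] at h3
  have h5 : (p • v) = 0 := by
    funext i
    simp
  rw [h5, uu_zero, ZMod.pow_card] at h3
  have i0 : II k := Sum.inr 0
  have := congrFun (congrFun h3 i0) i0
  simpa using this

/-- The trace relation. -/
lemma r_eq_one_of_tt {X X' : Matrix (II k) (II k) (ZMod p)} (hX : X' * X = 1) (hX' : X * X' = 1) {r : ZMod p} (hr : X * tt = r • (tt * X)) : r = 1 := by
  have h1 : X * tt * X' = r • tt := by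
    rw [hr, Matrix.smul_mul, Matrix.mul_assoc, hX', Matrix.mul_one]
  have h2 := congrArg Matrix.trace h1
  rw [Matrix.trace_smul, trace_tt, Matrix.mul_assoc, Matrix.trace_mul_comm, Matrix.mul_assoc, hX, Matrix.mul_one, trace_tt] at h2
  simp only [smul_eq_mul] at h2
  linear_combination h2

lemma qq_centralizer (hp2 : p ≠ 2) (hk : Odd k) (hk3 : 3 ≤ k) :
    Subgroup.centralizer (((qq (p := p) hk).range : Subgroup _) : Set (Matrix.ProjectiveSpecialLinearGroup (II k) (ZMod p))) = ⊥ := by
  have h2 : (2 : ZMod p) ≠ 0 := by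
    intro h
    have : ((2 : ℕ) : ZMod p) = 0 := by exact_mod_cast h
    rw [ZMod.natCast_eq_zero_iff] at this
    exact hp2 ((Nat.prime_dvd_prime_iff_eq hp.out Nat.prime_two).1 this)
  rw [eq_bot_iff]
  intro x hx
  induction x using QuotientGroup.induction_on with
  | H x =>
    rw [Subgroup.mem_centralizer_iff] at hx
    -- the scalar relation
    have key : ∀ h : HH p, ∃ r : ZMod p, ((x : Matrix (II k) (II k) (ZMod p))) * (PP hk h : Matrix (II k) (II k) (ZMod p)) = r • ((PP hk h : Matrix (II k) (II k) (ZMod p)) * x) := by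
      intro h
      have h1 := hx (qq hk h) ⟨h, rfl⟩
      rw [qq_apply, ← QuotientGroup.mk_mul, ← QuotientGroup.mk_mul, QuotientGroup.eq, Matrix.SpecialLinearGroup.mem_center_iff] at h1
      obtain ⟨r, -, hr⟩ := h1
      refine ⟨r, ?_⟩
      have h3 : x * PP hk h = (PP hk h * x) * ((PP hk h * x)⁻¹ * (x * PP hk h)) := by group
      have h4 := congrArg (fun A : Matrix.SpecialLinearGroup (II k) (ZMod p) => (A : Matrix (II k) (II k) (ZMod p))) h3
      rw [Matrix.SpecialLinearGroup.coe_mul, Matrix.SpecialLinearGroup.coe_mul (PP hk h * x), ← hr, Matrix.SpecialLinearGroup.coe_mul] at h4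
      rw [h4]
      ext i j
      simp [Matrix.scalar_apply, Matrix.mul_diagonal, mul_comm]
    have hX : ((x⁻¹ : Matrix.SpecialLinearGroup (II k) (ZMod p)) : Matrix (II k) (II k) (ZMod p)) * x = 1 := by
      rw [← Matrix.SpecialLinearGroup.coe_mul, inv_mul_cancel, Matrix.SpecialLinearGroup.coe_one]
    have hX' : (x : Matrix (II k) (II k) (ZMod p)) * ((x⁻¹ : Matrix.SpecialLinearGroup (II k) (ZMod p)) : Matrix (II k) (II k) (ZMod p)) = 1 := by
      rw [← Matrix.SpecialLinearGroup.coe_mul, mul_inv_cancel, Matrix.SpecialLinearGroup.coe_one]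
    have ht : (x : Matrix (II k) (II k) (ZMod p)) * tt = tt * (x : Matrix (II k) (II k) (ZMod p)) := by
      obtain ⟨r, hr⟩ := key (SemidirectProduct.inr (Multiplicative.ofAdd (1 : ZMod 2)))
      have e : ((PP hk (SemidirectProduct.inr (Multiplicative.ofAdd (1 : ZMod 2)) : HH p) : Matrix.SpecialLinearGroup (II k) (ZMod p)) : Matrix (II k) (II k) (ZMod p)) = tt := by
        rw [PP_inr]
        have h2 : f₂ (p := p) hk (Multiplicative.ofAdd (1 : ZMod 2)) = tS hk := f₂_gen hk
        rw [h2]
        rfl
      rw [e] at hr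
      have hr1 := r_eq_one_of_tt hX hX' hr
      rw [hr, hr1, one_smul]
    have hu : ∀ v : Fin 3 → ZMod p, (x : Matrix (II k) (II k) (ZMod p)) * uu v = uu v * (x : Matrix (II k) (II k) (ZMod p)) := by
      intro v
      obtain ⟨r, hr⟩ := key (SemidirectProduct.inl (Multiplicative.ofAdd v))
      have e : ((PP hk (SemidirectProduct.inl (Multiplicative.ofAdd v) : HH p) : Matrix.SpecialLinearGroup (II k) (ZMod p)) : Matrix (II k) (II k) (ZMod p)) = uu v := by
        rw [PP_inl]
        rfl
      rw [e] at hr
      have hr1 := r_eq_one_of_uu hX hX' hr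
      rw [hr, hr1, one_smul]
    -- block form
    obtain ⟨P, R, S, Q, hblock⟩ : ∃ P R S Q, (x : Matrix (II k) (II k) (ZMod p)) = fromBlocks P R S Q :=
      ⟨_, _, _, _, (Matrix.fromBlocks_toBlocks _).symm⟩
    rw [hblock] at ht hu
    have hRS := ht
    simp only [tt, fromBlocks_multiply, Matrix.mul_one, Matrix.one_mul, Matrix.mul_zero, Matrix.zero_mul, add_zero, zero_add, Matrix.mul_neg, Matrix.neg_mul] at hRS
    have hb := Matrix.fromBlocks_inj.1 hRS
    have hR : R = 0 := by
      have h3 : (2 : ZMod p) • R = 0 := by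
        rw [two_smul]
        have := hb.2.1
        rw [neg_eq_iff_add_eq_zero] at this
        exact this
      exact (smul_eq_zero.1 h3).resolve_left h2
    have hS : S = 0 := by
      have h3 : (2 : ZMod p) • S = 0 := by
        rw [two_smul]
        have := hb.2.2.1
        rw [eq_neg_iff_add_eq_zero] at this
        exact this
      exact (smul_eq_zero.1 h3).resolve_left h2
    subst hR hS
    have hL : ∀ v : Fin 3 → ZMod p, Q * LL v = LL v * P := by
      intro v
      have := hu v
      simp only [uu, fromBlocks_multiply, Matrix.mul_one, Matrix.one_mul, Matrix.mul_zero, Matrix.zero_mul, add_zero, zero_add] at this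
      exact (Matrix.fromBlocks_inj.1 this).2.2.1
    have hA : Q * matA _ k = matA _ k * P := by
      have := hL ![1, 0, 0]
      simpa [LL] using this
    have hB : Q * matB _ k = matB _ k * P := by
      have := hL ![0, 1, 0]
      simpa [LL] using this
    obtain ⟨c, hP, hQ⟩ := scalar_of_comm (by omega) P Q hA hB
    rw [Subgroup.mem_bot, QuotientGroup.eq_one_iff, Matrix.SpecialLinearGroup.mem_center_iff]
    have hx1 : (x : Matrix (II k) (II k) (ZMod p)) = c • 1 := by
      rw [hblock, hP, hQ]
      ext i j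
      rcases i with i | i <;> rcases j with j | j <;> simp [Matrix.one_apply]
    refine ⟨c, ?_, ?_⟩
    · have h3 := x.2
      change (x : Matrix (II k) (II k) (ZMod p)).det = 1 at h3
      rw [hx1, Matrix.det_smul, Matrix.det_one, mul_one] at h3
      exact h3
    · rw [hx1]
      ext i j
      simp [Matrix.scalar_apply, Matrix.one_apply, Matrix.diagonal_apply]

/-- Reindexing. -/
def slR {ι κ : Type*} [Fintype ι] [Fintype κ] [DecidableEq ι] [DecidableEq κ] (e : ι ≃ κ) (R : Type*) [CommRing R] :
    Matrix.SpecialLinearGroup ι R ≃* Matrix.SpecialLinearGroup κ R where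
  toFun A := ⟨Matrix.reindex e e (A : Matrix ι ι R), by rw [Matrix.det_reindex_self]; exact A.2⟩
  invFun A := ⟨Matrix.reindex e.symm e.symm (A : Matrix κ κ R), by rw [Matrix.det_reindex_self]; exact A.2⟩
  left_inv A := Subtype.ext (by simp)
  right_inv A := Subtype.ext (by simp)
  map_mul' A B := Subtype.ext (by
    change Matrix.reindex e e ((A : Matrix ι ι R) * (B : Matrix ι ι R)) = Matrix.reindex e e (A : Matrix ι ι R) * Matrix.reindex e e (B : Matrix ι ι R)
    simp [Matrix.reindex_apply, Matrix.submatrix_mul_equiv])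

/-- The main theorem. -/
theorem main (hp2 : p ≠ 2) (N : ℕ) : ∃ n, N ≤ n ∧ ∃ φ : HH p →* Matrix.ProjectiveSpecialLinearGroup (Fin n) (ZMod p),
    Function.Injective φ ∧ Subgroup.centralizer (φ.range : Set (Matrix.ProjectiveSpecialLinearGroup (Fin n) (ZMod p))) = ⊥ := by
  classical
  set k := 2 * N + 3 with hk
  have hko : Odd k := ⟨N + 1, by omega⟩
  have hk3 : 3 ≤ k := by omega
  have hc : Fintype.card (II k) = 2 * k + 1 := by
    simp
    omega
  let e : II k ≃ Fin (2 * k + 1) := Fintype.equivFinOfCardEq hc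
  let E := slR e (ZMod p)
  have hE : (Subgroup.center (Matrix.SpecialLinearGroup (II k) (ZMod p))).map E.toMonoidHom = Subgroup.center (Matrix.SpecialLinearGroup (Fin (2 * k + 1)) (ZMod p)) := by
    ext x
    constructor
    · rintro ⟨y, hy, rfl⟩
      replace hy : y ∈ Subgroup.center _ := hy
      rw [Subgroup.mem_center_iff] at hy ⊢
      intro g
      obtain ⟨g', rfl⟩ := E.surjective g
      change E g' * E y = E y * E g'
      rw [← map_mul, ← map_mul, hy]
    · intro hx
      refine ⟨E.symm x, ?_, E.apply_symm_apply x⟩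
      change E.symm x ∈ Subgroup.center _
      rw [Subgroup.mem_center_iff] at hx ⊢
      intro g
      apply E.injective
      simp only [map_mul, MulEquiv.apply_symm_apply]
      exact hx _
  let E' : Matrix.ProjectiveSpecialLinearGroup (II k) (ZMod p) ≃* Matrix.ProjectiveSpecialLinearGroup (Fin (2 * k + 1)) (ZMod p) :=
    QuotientGroup.congr _ _ E hE
  refine ⟨2 * k + 1, by omega, E'.toMonoidHom.comp (qq hko), E'.injective.comp (qq_inj hp2 hko hk3), ?_⟩
  rw [eq_bot_iff]
  intro x hx
  have h1 : E'.symm x ∈ Subgroup.centralizer (((qq (p := p) hko).range : Subgroup _) : Set (Matrix.ProjectiveSpecialLinearGroup (II k) (ZMod p))) := by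
    rw [Subgroup.mem_centralizer_iff] at hx ⊢
    rintro _ ⟨h, rfl⟩
    apply E'.injective
    simp only [map_mul, MulEquiv.apply_symm_apply]
    exact hx _ ⟨h, rfl⟩
  rw [qq_centralizer hp2 hko hk3, Subgroup.mem_bot] at h1
  rw [Subgroup.mem_bot]
  have := congrArg E' h1
  simpa using this

end groups

end Cfsg.Agent.Lib.Known3.SelfCent
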