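import Mathlib

/-! Prime power divisors of element orders in `GL_n(q)` prime to the characteristic divide some
`q^d - 1` with `d ≤ n`. -/

namespace Cfsg.Agent.Lib.Known3.OrderDvd

open Polynomial Matrix

variable {F : Type*} [Field F] [Fintype F]

theorem geom_eval {R : Type*} [CommRing R] (x : R) (r s : ℕ) :
    (x ^ s - 1) * ∑ i ∈ Finset.range r, x ^ (i * s) = x ^ (r * s) - 1 := by
  have h := mul_geom_sum (x ^ s) r
  simp only [← pow_mul] at h
  rw [mul_comm r s, ← h]
  congr 1
  apply Finset.sum_congr rfl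
  intro i _
  rw [mul_comm]

/-- If `r` is a prime, invertible in `F`, and `A` is a square matrix with `A ^ (r^(a+1)) = 1`,
`A^(r^a) ≠ 1`, then `r^(a+1)` divides `q^d - 1` for some `1 ≤ d ≤ n`. -/
theorem exists_dvd_of_matrix {n r a : ℕ} (hr : r.Prime) (hrF : (r : F) ≠ 0)
    (A : Matrix (Fin n) (Fin n) F) (h1 : A ^ (r ^ (a + 1)) = 1) (h2 : A ^ (r ^ a) ≠ 1) :
    ∃ d, 1 ≤ d ∧ d ≤ n ∧ r ^ (a + 1) ∣ Fintype.card F ^ d - 1 := by
  classical
  -- minimal polynomial
  have hAint : IsIntegral F A := Algebra.IsIntegral.isIntegral A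
  set μ := minpoly F A with hμ
  set s := r ^ a with hs
  set Φ : F[X] := ∑ i ∈ Finset.range r, (X : F[X]) ^ (i * s) with hΦ
  have hgeom : ((X : F[X]) ^ s - 1) * Φ = X ^ (r * s) - 1 := geom_eval X r s
  have hrs : r * s = r ^ (a + 1) := by rw [hs, pow_succ]; ring
  -- A is annihilated
  have hΦA : (A ^ s - 1) * aeval A Φ = 0 := by
    have := congrArg (aeval A) hgeom
    simp only [map_mul, map_sub, map_pow, aeval_X, map_one] at this
    rw [this, hrs, h1, sub_self]
  -- μ, Φ are not coprime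
  have hncop : ¬ IsCoprime μ Φ := by
    rintro ⟨u, v, huv⟩
    apply h2
    have h3 := congrArg (aeval A) huv
    simp only [map_add, map_mul, map_one, hμ, minpoly.aeval, mul_zero, zero_add] at h3
    have h4 : (A ^ s - 1) * (aeval A v * aeval A Φ) = A ^ s - 1 := by rw [h3, mul_one]
    have h5 : (A ^ s - 1) * (aeval A v * aeval A Φ) = 0 := by
      have hc : Commute (aeval A v) (aeval A Φ) := by
        show aeval A v * aeval A Φ = aeval A Φ * aeval A v
        rw [← map_mul, ← map_mul, mul_comm]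
      rw [hc.eq, ← mul_assoc, hΦA, zero_mul]
    rw [h5] at h4
    exact (sub_eq_zero.1 h4.symm)
  have hμ0 : μ ≠ 0 := minpoly.ne_zero hAint
  -- common irreducible factor
  have : ∃ f : F[X], Irreducible f ∧ f ∣ μ ∧ f ∣ Φ := by
    by_contra hcon
    push Not at hcon
    apply hncop
    apply isCoprime_of_prime_dvd (fun h => hμ0 h.1)
    intro z hz hzμ hzΦ
    exact hcon z hz.irreducible hzμ hzΦ
  obtain ⟨f, hf, hfμ, hfΦ⟩ := this
  -- The field
  haveI : Fact (Irreducible f) := ⟨hf⟩
  let E := AdjoinRoot f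
  let ζ : E := AdjoinRoot.root f
  have hζf : aeval ζ f = 0 := by
    rw [AdjoinRoot.aeval_eq, AdjoinRoot.mk_self]
  have hζΦ : aeval ζ Φ = 0 := by
    obtain ⟨w, hw⟩ := hfΦ
    rw [hw, map_mul, hζf, zero_mul]
  have hζ1 : ζ ^ (r * s) = 1 := by
    have := congrArg (aeval ζ) hgeom
    simp only [map_mul, map_sub, map_pow, aeval_X, map_one, hζΦ, mul_zero] at this
    exact (sub_eq_zero.1 this.symm)
  have hζ2 : ζ ^ s ≠ 1 := by
    intro hc
    have h3 : aeval ζ Φ = (r : E) := by
      simp only [hΦ, map_sum, map_pow, aeval_X]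
      have : ∀ i ∈ Finset.range r, ζ ^ (i * s) = 1 := by
        intro i _
        rw [mul_comm, pow_mul, hc, one_pow]
      rw [Finset.sum_congr rfl this]
      simp
    rw [hζΦ] at h3
    apply hrF
    have h4 : algebraMap F E (r : F) = 0 := by
      rw [map_natCast]
      exact h3.symm
    exact (map_eq_zero (algebraMap F E)).1 h4
  haveI : Fact r.Prime := ⟨hr⟩
  have hord : orderOf ζ = r ^ (a + 1) := by
    apply orderOf_eq_prime_pow
    · exact hζ2
    · rw [← hrs]; exact hζ1
  have hf0 : f ≠ 0 := hf.ne_zero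
  have hfr : Module.finrank F E = f.natDegree := (AdjoinRoot.powerBasis hf0).finrank.trans (by
    simp [AdjoinRoot.powerBasis])
  haveI : FiniteDimensional F E := (AdjoinRoot.powerBasis hf0).finite
  haveI : Finite E := Module.finite_of_finite F
  haveI : Fintype E := Fintype.ofFinite E
  have hcard : Fintype.card E = Fintype.card F ^ f.natDegree := by
    rw [← hfr]
    exact Module.card_eq_pow_finrank
  have hζ0 : ζ ≠ 0 := by
    intro hc
    rw [hc, zero_pow (by
      rw [hrs]; exact (pow_pos hr.pos _).ne')] at hζ1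
    exact zero_ne_one hζ1
  refine ⟨f.natDegree, hf.natDegree_pos, ?_, ?_⟩
  · have h5 : f.natDegree ≤ μ.natDegree :=
      natDegree_le_of_dvd hfμ hμ0
    have h6 : μ.natDegree ≤ n := by
      have h7 := Matrix.minpoly_dvd_charpoly A
      have h8 := natDegree_le_of_dvd h7 (Matrix.charpoly_monic A).ne_zero
      rw [Matrix.charpoly_natDegree_eq_dim] at h8
      simpa using h8
    omega
  · rw [← hord, ← hcard]
    apply orderOf_dvd_of_pow_eq_one
    exact FiniteField.pow_card_sub_one_eq_one ζ hζ0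

/-- For `g` in `GL_n(F)`, prime `r` invertible in `F`, and `r^a ∣ orderOf g` (`a ≥ 1`),
`r^a` divides `q^d - 1` for some `1 ≤ d ≤ n`. -/
theorem exists_dvd_of_gl {n r a : ℕ} (hr : r.Prime) (hrF : (r : F) ≠ 0) (ha : 1 ≤ a)
    (g : GL (Fin n) F) (h : r ^ a ∣ orderOf g) :
    ∃ d, 1 ≤ d ∧ d ≤ n ∧ r ^ a ∣ Fintype.card F ^ d - 1 := by
  obtain ⟨b, rfl⟩ : ∃ b, a = b + 1 := ⟨a - 1, by omega⟩
  have h0 : orderOf g ≠ 0 := by
    rw [orderOf_ne_zero_iff]
    exact isOfFinOrder_of_finite g
  have hord := orderOf_pow_orderOf_div h0 h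
  set x := g ^ (orderOf g / r ^ (b + 1)) with hx
  apply exists_dvd_of_matrix (F := F) hr hrF (x : Matrix (Fin n) (Fin n) F)
  · rw [← Units.val_pow_eq_pow_val, ← hord, pow_orderOf_eq_one, Units.val_one]
  · intro hc
    have h1 : x ^ (r ^ b) = 1 := by
      apply Units.ext
      rw [Units.val_pow_eq_pow_val, hc, Units.val_one]
    have h2 := orderOf_dvd_of_pow_eq_one h1
    rw [hord] at h2
    have h3 := Nat.le_of_dvd (pow_pos hr.pos _) h2
    have h4 := Nat.pow_lt_pow_right hr.one_lt (Nat.lt_succ_self b)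
    exact absurd h3 (not_le.2 h4)

end Cfsg.Agent.Lib.Known3.OrderDvd
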