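import Mathlib

/-! The Coxeter presentation of the symmetric group. -/

set_option autoImplicit false

namespace Cfsg.Agent.Lib.Known3.CoxA

open CoxeterMatrix

/-- The simple reflection with natural-number index. -/
noncomputable def tt (n : ℕ) (j : ℕ) : (CoxeterMatrix.A n).Group :=
  if h : j < n then (CoxeterMatrix.A n).toCoxeterSystem.simple ⟨j, h⟩ else 1

variable {n : ℕ}

lemma tt_of {j : ℕ} (h : j < n) : tt n j = (CoxeterMatrix.A n).toCoxeterSystem.simple ⟨j, h⟩ := dif_pos h

lemma tt_sq {j : ℕ} (h : j < n) : tt n j * tt n j = 1 := by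
  rw [tt_of h]
  exact CoxeterSystem.simple_mul_simple_self _ _

lemma tt_comm {i j : ℕ} (hij : i + 2 ≤ j) (hj : j < n) : tt n i * tt n j = tt n j * tt n i := by
  have hi : i < n := by omega
  rw [tt_of hi, tt_of hj]
  have h1 := CoxeterSystem.simple_mul_simple_pow (CoxeterMatrix.A n).toCoxeterSystem (⟨i, hi⟩ : Fin n) ⟨j, hj⟩
  have h2 : (CoxeterMatrix.A n) ⟨i, hi⟩ ⟨j, hj⟩ = 2 := by
    simp only [CoxeterMatrix.A, Matrix.of_apply]
    rw [if_neg (by simp [Fin.ext_iff]; omega), if_neg (by simp; omega)]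
  rw [h2] at h1
  set a := (CoxeterMatrix.A n).toCoxeterSystem.simple ⟨i, hi⟩
  set b := (CoxeterMatrix.A n).toCoxeterSystem.simple ⟨j, hj⟩
  have ha : a * a = 1 := CoxeterSystem.simple_mul_simple_self _ _
  have hb : b * b = 1 := CoxeterSystem.simple_mul_simple_self _ _
  have h3 : a * b * (a * b) = 1 := by rw [← pow_two]; exact h1
  calc a * b = a * b * (a * b) * (b * a) := by
        rw [show a * b * (a * b) * (b * a) = a * b * a * (b * b) * a by group, hb, mul_one, mul_assoc, mul_assoc, ha, mul_one]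
    _ = b * a := by rw [h3, one_mul]

lemma tt_braid {j : ℕ} (hj : j + 1 < n) : tt n j * tt n (j + 1) * tt n j = tt n (j + 1) * tt n j * tt n (j + 1) := by
  have hi : j < n := by omega
  rw [tt_of hi, tt_of hj]
  have h1 := CoxeterSystem.simple_mul_simple_pow (CoxeterMatrix.A n).toCoxeterSystem (⟨j, hi⟩ : Fin n) ⟨j + 1, hj⟩
  have h2 : (CoxeterMatrix.A n) ⟨j, hi⟩ ⟨j + 1, hj⟩ = 3 := by
    simp only [CoxeterMatrix.A, Matrix.of_apply]
    rw [if_neg (by simp [Fin.ext_iff]), if_pos (by simp)]
  rw [h2] at h1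
  set a := (CoxeterMatrix.A n).toCoxeterSystem.simple ⟨j, hi⟩
  set b := (CoxeterMatrix.A n).toCoxeterSystem.simple ⟨j + 1, hj⟩
  have ha : a⁻¹ = a := inv_eq_of_mul_eq_one_left (CoxeterSystem.simple_mul_simple_self _ _)
  have hb : b⁻¹ = b := inv_eq_of_mul_eq_one_left (CoxeterSystem.simple_mul_simple_self _ _)
  have h3 : a * b * (a * b) * (a * b) = 1 := by
    rw [← h1, pow_succ, pow_two]
  have h4 : a * b * a = (b * a * b)⁻¹⁻¹ := by
    rw [inv_inv]
    have : (a * b * a) * (b * a * b)⁻¹ = 1 := by
      rw [mul_inv_rev, mul_inv_rev, ha, hb]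
      have : a * b * a * (b * (a * b)) = a * b * (a * b) * (a * b) := by group
      rw [this, h3]
    exact mul_inv_eq_one.1 this
  rw [h4, inv_inv]

/-- The coset representatives. -/
noncomputable def dd (n a : ℕ) : (CoxeterMatrix.A n).Group := ((List.range' a (n - a)).map (tt n)).prod

lemma dd_top : dd n n = 1 := by simp [dd]

lemma dd_succ {a : ℕ} (ha : a < n) : dd n a = tt n a * dd n (a + 1) := by
  obtain ⟨k, hk⟩ : ∃ k, n - a = k + 1 := ⟨n - a - 1, by omega⟩
  have hk' : n - (a + 1) = k := by omega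
  simp only [dd, hk, hk', List.range'_succ, List.map_cons, List.prod_cons]

lemma comm_dd {j a : ℕ} (hja : j + 2 ≤ a) (ha : a ≤ n) : tt n j * dd n a = dd n a * tt n j := by
  induction' hk : n - a with k ih generalizing a
  · have : a = n := by omega
    subst this
    rw [dd_top, mul_one, one_mul]
  · have ha' : a < n := by omega
    rw [dd_succ ha', ← mul_assoc, tt_comm hja ha', mul_assoc, ih (by omega) (by omega) (by omega), mul_assoc]

lemma shift_dd {i a : ℕ} (hai : a ≤ i) (hi : i + 1 < n) : tt n (i + 1) * dd n a = dd n a * tt n i := by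
  induction' hk : i - a with k ih generalizing a
  · have : a = i := by omega
    subst this
    rw [dd_succ (by omega : a < n), dd_succ hi]
    have h1 := comm_dd (n := n) (j := a) (a := a + 1 + 1) (by omega) (by omega)
    calc tt n (a + 1) * (tt n a * (tt n (a + 1) * dd n (a + 1 + 1)))
        = (tt n (a + 1) * tt n a * tt n (a + 1)) * dd n (a + 1 + 1) := by group
      _ = (tt n a * tt n (a + 1) * tt n a) * dd n (a + 1 + 1) := by rw [tt_braid hi]
      _ = tt n a * tt n (a + 1) * (tt n a * dd n (a + 1 + 1)) := by group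
      _ = tt n a * tt n (a + 1) * (dd n (a + 1 + 1) * tt n a) := by rw [h1]
      _ = _ := by group
  · have ha' : a < n := by omega
    rw [dd_succ ha']
    have h1 := tt_comm (n := n) (i := a) (j := i + 1) (by omega) hi
    calc tt n (i + 1) * (tt n a * dd n (a + 1)) = (tt n (i + 1) * tt n a) * dd n (a + 1) := by group
      _ = tt n a * (tt n (i + 1) * dd n (a + 1)) := by rw [← h1]; group
      _ = tt n a * (dd n (a + 1) * tt n i) := by rw [ih (by omega) (by omega)]
      _ = _ := by group

/-- Left multiplication by a generator on coset representatives. -/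
lemma mul_dd {j a : ℕ} (hj : j < n) (ha : a ≤ n) :
    (j + 1 = a ∧ tt n j * dd n a = dd n j) ∨ (j = a ∧ tt n j * dd n a = dd n (a + 1)) ∨
    (∃ i, i + 1 < n ∧ tt n j * dd n a = dd n a * tt n i) := by
  by_cases h1 : j + 1 = a
  · left
    subst h1
    exact ⟨rfl, (dd_succ hj).symm⟩
  by_cases h2 : j = a
  · right; left
    subst h2
    refine ⟨rfl, ?_⟩
    rw [dd_succ hj, ← mul_assoc, tt_sq hj, one_mul]
  right; right
  by_cases h3 : j + 2 ≤ a
  · exact ⟨j, by omega, comm_dd h3 ha⟩
  · obtain ⟨i, rfl⟩ : ∃ i, j = i + 1 := ⟨j - 1, by omega⟩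
    exact ⟨i, by omega, shift_dd (by omega) hj⟩

/-- The adjacent transposition as a function. -/
def adj (n : ℕ) (i : Fin n) : Equiv.Perm (Fin (n + 1)) := Equiv.swap i.castSucc i.succ

lemma adj_liftable (n : ℕ) : (CoxeterMatrix.A n).IsLiftable (adj n) := by
  intro i j
  simp only [CoxeterMatrix.A, Matrix.of_apply]
  by_cases hij : i = j
  · subst hij
    simp [adj]
  rw [if_neg hij]
  have hij' : (i : ℕ) ≠ j := fun h => hij (Fin.ext h)
  by_cases h3 : (j : ℕ) + 1 = i ∨ (i : ℕ) + 1 = j
  · rw [if_pos h3]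
    rcases h3 with h3 | h3
    · have h4 : (j.succ : Fin (n + 1)) = i.castSucc := by
        apply Fin.ext
        simp [h3]
      simp only [adj]
      rw [← h4]
      have h6 := Equiv.Perm.isThreeCycle_swap_mul_swap_same (a := j.succ) (b := i.succ) (c := j.castSucc)
        (by simp [Fin.ext_iff]; omega) (by simp [Fin.ext_iff]) (by simp [Fin.ext_iff]; omega)
      have h7 := pow_orderOf_eq_one (Equiv.swap j.succ i.succ * Equiv.swap j.succ j.castSucc)
      rw [h6.orderOf] at h7
      rw [Equiv.swap_comm j.castSucc j.succ]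
      exact h7
    · have h4 : (i.succ : Fin (n + 1)) = j.castSucc := by
        apply Fin.ext
        simp [h3]
      simp only [adj]
      rw [h4]
      have h6 := Equiv.Perm.isThreeCycle_swap_mul_swap_same (a := j.castSucc) (b := i.castSucc) (c := j.succ)
        (by simp [Fin.ext_iff]; omega) (by simp [Fin.ext_iff]) (by simp [Fin.ext_iff]; omega)
      have h7 := pow_orderOf_eq_one (Equiv.swap j.castSucc i.castSucc * Equiv.swap j.castSucc j.succ)
      rw [h6.orderOf] at h7
      rw [Equiv.swap_comm i.castSucc j.castSucc]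
      exact h7
  · rw [if_neg h3]
    simp only [adj]
    have h4 : (Equiv.swap i.castSucc i.succ).Disjoint (Equiv.swap j.castSucc j.succ) := by
      apply Equiv.Perm.disjoint_swap_swap <;> simp [Fin.ext_iff] <;> omega
    rw [pow_two, mul_assoc, ← mul_assoc (Equiv.swap j.castSucc j.succ), h4.symm.commute.eq, mul_assoc]
    simp

/-- The map to the symmetric group. -/
noncomputable def φ (n : ℕ) : (CoxeterMatrix.A n).Group →* Equiv.Perm (Fin (n + 1)) :=
  (CoxeterMatrix.A n).toCoxeterSystem.lift ⟨adj n, adj_liftable n⟩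

lemma φ_simple (i : Fin n) : φ n ((CoxeterMatrix.A n).toCoxeterSystem.simple i) = Equiv.swap i.castSucc i.succ :=
  CoxeterSystem.lift_apply_simple _ _ i

lemma φ_surj (n : ℕ) : Function.Surjective (φ n) := by
  rw [← MonoidHom.range_eq_top, eq_top_iff]
  have h1 := Equiv.Perm.mclosure_swap_castSucc_succ n
  rintro x -
  have hx : x ∈ Submonoid.closure (Set.range fun i : Fin n => Equiv.swap i.castSucc i.succ) := by
    rw [h1]
    exact Submonoid.mem_top x
  induction hx using Submonoid.closure_induction with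
  | mem y hy =>
    obtain ⟨i, rfl⟩ := hy
    exact ⟨_, φ_simple i⟩
  | one => exact Subgroup.one_mem _
  | mul a b _ _ ha hb => exact Subgroup.mul_mem _ ha hb

/-- The inclusion of the Coxeter group of rank one less. -/
noncomputable def ι (n : ℕ) : (CoxeterMatrix.A n).Group →* (CoxeterMatrix.A (n + 1)).Group :=
  (CoxeterMatrix.A n).toCoxeterSystem.lift ⟨fun i => (CoxeterMatrix.A (n + 1)).toCoxeterSystem.simple i.castSucc, by
    intro i j
    have h1 := CoxeterSystem.simple_mul_simple_pow (CoxeterMatrix.A (n + 1)).toCoxeterSystem i.castSucc j.castSucc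
    have h2 : (CoxeterMatrix.A (n + 1)) i.castSucc j.castSucc = (CoxeterMatrix.A n) i j := by
      simp [CoxeterMatrix.A, Fin.ext_iff]
    rw [h2] at h1
    exact h1⟩

lemma ι_simple (i : Fin n) : ι n ((CoxeterMatrix.A n).toCoxeterSystem.simple i) = (CoxeterMatrix.A (n + 1)).toCoxeterSystem.simple i.castSucc :=
  CoxeterSystem.lift_apply_simple _ _ i

/-- The image of `ι` under `φ`. -/
lemma φ_ι_apply (w : (CoxeterMatrix.A n).Group) (a : Fin (n + 1)) : φ (n + 1) (ι n w) a.castSucc = (φ n w a).castSucc := by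
  revert a
  induction w using (CoxeterMatrix.A n).toCoxeterSystem.simple_induction_left with
  | one => simp
  | mul_simple_left w i ih =>
    intro a
    rw [map_mul, map_mul, map_mul, Equiv.Perm.mul_apply, Equiv.Perm.mul_apply, ih, ι_simple, φ_simple, φ_simple]
    have h1 : (i.castSucc.castSucc : Fin (n + 2)) = (i.castSucc : Fin (n + 1)).castSucc := rfl
    have h2 : (i.castSucc.succ : Fin (n + 2)) = (i.succ : Fin (n + 1)).castSucc := rfl
    rw [h2, ← Fin.castSucc_injective _ |>.map_swap]
    

lemma φ_ι_last (w : (CoxeterMatrix.A n).Group) : φ (n + 1) (ι n w) (Fin.last (n + 1)) = Fin.last (n + 1) := by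
  induction w using (CoxeterMatrix.A n).toCoxeterSystem.simple_induction_left with
  | one => simp
  | mul_simple_left w i ih =>
    rw [map_mul, map_mul, Equiv.Perm.mul_apply, ih, ι_simple, φ_simple]
    apply Equiv.swap_apply_of_ne_of_ne <;> simp [Fin.ext_iff] <;> omega

/-- The normal form. -/
theorem exists_nf (x : (CoxeterMatrix.A (n + 1)).Group) : ∃ a, a ≤ n + 1 ∧ ∃ w, x = dd (n + 1) a * ι n w := by
  induction x using (CoxeterMatrix.A (n + 1)).toCoxeterSystem.simple_induction_left with
  | one => exact ⟨n + 1, le_rfl, 1, by rw [dd_top, map_one, one_mul]⟩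
  | mul_simple_left x i ih =>
    obtain ⟨a, ha, w, rfl⟩ := ih
    have hi : (i : ℕ) < n + 1 := i.2
    have hti : (CoxeterMatrix.A (n + 1)).toCoxeterSystem.simple i = tt (n + 1) i := (tt_of hi).symm
    rw [hti]
    rcases mul_dd hi ha with ⟨h1, h2⟩ | ⟨h1, h2⟩ | ⟨j, hj, h2⟩
    · exact ⟨i, by omega, w, by rw [← mul_assoc, h2]⟩
    · subst h1
      have h3 : (i : ℕ) + 1 ≤ n + 1 := by omega
      exact ⟨i + 1, h3, w, by rw [← mul_assoc, h2]⟩
    · have hj' : j < n := by omega
      refine ⟨a, ha, (CoxeterMatrix.A n).toCoxeterSystem.simple ⟨j, hj'⟩ * w, ?_⟩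
      rw [← mul_assoc, h2, map_mul, ι_simple, mul_assoc]
      congr 2
      exact tt_of _

/-- The images of the coset representatives. -/
lemma φ_dd_last {a : ℕ} (ha : a ≤ n + 1) : ((φ (n + 1) (dd (n + 1) a)) (Fin.last (n + 1)) : ℕ) = a := by
  induction' hk : n + 1 - a with k ih generalizing a
  · have : a = n + 1 := by omega
    subst this
    rw [dd_top, map_one]
    simp
  · have ha' : a < n + 1 := by omega
    rw [dd_succ ha', map_mul, Equiv.Perm.mul_apply]
    have h1 := ih (a := a + 1) (by omega) (by omega)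
    have h2 : (φ (n + 1) (dd (n + 1) (a + 1))) (Fin.last (n + 1)) = (⟨a, ha'⟩ : Fin (n + 1)).succ := by
      apply Fin.ext
      rw [h1]
      simp
    rw [h2, tt_of ha', φ_simple, Equiv.swap_apply_right]
    simp

/-- Injectivity, by induction on the rank. -/
theorem φ_inj (n : ℕ) : Function.Injective (φ n) := by
  rw [injective_iff_map_eq_one]
  induction n with
  | zero =>
    intro x _
    induction x using (CoxeterMatrix.A 0).toCoxeterSystem.simple_induction_left with
    | one => rfl
    | mul_simple_left x i ih => exact i.elim0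
  | succ n ih =>
    intro x hx
    obtain ⟨a, ha, w, rfl⟩ := exists_nf x
    rw [map_mul] at hx
    have h1 := DFunLike.congr_fun hx (Fin.last (n + 1))
    rw [Equiv.Perm.mul_apply, φ_ι_last] at h1
    have h2 := φ_dd_last (n := n) ha
    rw [h1] at h2
    have h3 : a = n + 1 := by simpa using h2.symm
    subst h3
    rw [dd_top] at hx ⊢
    rw [map_one, one_mul] at hx
    rw [one_mul]
    have h4 : φ n w = 1 := by
      ext b
      have h5 := DFunLike.congr_fun hx b.castSucc
      rw [φ_ι_apply] at h5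
      have h6 : (φ n w b).castSucc = b.castSucc := h5
      rw [Fin.castSucc_injective _ h6]
      rfl
    rw [ih w h4, map_one]

/-- The Coxeter system. -/
noncomputable def cs (n : ℕ) : CoxeterSystem (CoxeterMatrix.A n) (Equiv.Perm (Fin (n + 1))) :=
  ⟨(MulEquiv.ofBijective (φ n) ⟨φ_inj n, φ_surj n⟩).symm⟩

lemma cs_simple (n : ℕ) (i : Fin n) : (cs n).simple i = Equiv.swap i.castSucc i.succ := by
  have h1 := φ_simple i
  exact h1

end Cfsg.Agent.Lib.Known3.CoxA
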