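import Mathlib
import Cfsg.Agent.Lib.Chev.OrbG2
import Cfsg.Agent.Lib.Chev.Count3
import Cfsg.Agent.Lib.Chev.Simple
import Cfsg.Agent.Lib.Chev.HCard

/-! Tables for the Chevalley group of type `G₂` over the field with three elements, on its module of dimension seven. -/

set_option autoImplicit false
set_option maxRecDepth 100000
set_option maxHeartbeats 4000000

namespace Cfsg.Agent.Lib.Known3.G23

open Cfsg.Lie Matrix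

abbrev R := ZMod 3
abbrev Idx := chevG2.Idx
abbrev M7 := Matrix (Fin 7) (Fin 7) R

/-- The coordinates of the seven dimensional submodule. -/
def J : Fin 7 → Idx := ![Sum.inl ⟨0, by decide⟩, Sum.inr ⟨2, by decide⟩, Sum.inr ⟨3, by decide⟩, Sum.inr ⟨4, by decide⟩,
  Sum.inr ⟨7, by decide⟩, Sum.inr ⟨8, by decide⟩, Sum.inr ⟨9, by decide⟩]

/-- The other coordinates. -/
def J' : Fin 7 → Idx := ![Sum.inl ⟨1, by decide⟩, Sum.inr ⟨0, by decide⟩, Sum.inr ⟨1, by decide⟩, Sum.inr ⟨5, by decide⟩,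
  Sum.inr ⟨6, by decide⟩, Sum.inr ⟨10, by decide⟩, Sum.inr ⟨11, by decide⟩]

theorem J_inj : Function.Injective J := by
  intro a b h
  revert a b
  decide +kernel

theorem J_cover : ∀ l : Idx, (∃ k, l = J k) ∨ (∃ k, l = J' k) := by
  decide +kernel

theorem J_ne : ∀ k j : Fin 7, J' k ≠ J j := by
  decide +kernel

/-- Equality of vectors as a boolean. -/
def eqV (u v : Fin 7 → R) : Bool :=
  decide (u 0 = v 0) && decide (u 1 = v 1) && decide (u 2 = v 2) && decide (u 3 = v 3) && decide (u 4 = v 4) &&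
    decide (u 5 = v 5) && decide (u 6 = v 6)

theorem eqV_spec {u v : Fin 7 → R} (h : eqV u v = true) : u = v := by
  simp only [eqV, Bool.and_eq_true, decide_eq_true_eq] at h
  obtain ⟨⟨⟨⟨⟨⟨h0, h1⟩, h2⟩, h3⟩, h4⟩, h5⟩, h6⟩ := h
  funext i
  fin_cases i <;> assumption

/-- Equality of matrices as a boolean. -/
def eqM (A B : M7) : Bool :=
  eqV (A 0) (B 0) && eqV (A 1) (B 1) && eqV (A 2) (B 2) && eqV (A 3) (B 3) && eqV (A 4) (B 4) && eqV (A 5) (B 5) && eqV (A 6) (B 6)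

theorem eqM_spec {A B : M7} (h : eqM A B = true) : A = B := by
  simp only [eqM, Bool.and_eq_true] at h
  obtain ⟨⟨⟨⟨⟨⟨h0, h1⟩, h2⟩, h3⟩, h4⟩, h5⟩, h6⟩ := h
  ext i j
  fin_cases i
  · exact congrFun (eqV_spec h0) j
  · exact congrFun (eqV_spec h1) j
  · exact congrFun (eqV_spec h2) j
  · exact congrFun (eqV_spec h3) j
  · exact congrFun (eqV_spec h4) j
  · exact congrFun (eqV_spec h5) j
  · exact congrFun (eqV_spec h6) j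

theorem eqM_ne {A B : M7} (h : eqM A B = false) : A ≠ B := by
  rintro rfl
  have : eqM A A = true := by
    simp [eqM, eqV]
  rw [this] at h
  exact Bool.noConfusion h

/-- Fast matrix times vector. -/
def mv (Z : M7) (w : Fin 7 → R) : Fin 7 → R := fun i =>
  Z i 0 * w 0 + Z i 1 * w 1 + Z i 2 * w 2 + Z i 3 * w 3 + Z i 4 * w 4 + Z i 5 * w 5 + Z i 6 * w 6

theorem mv_eq (Z : M7) (w : Fin 7 → R) : mv Z w = Z *ᵥ w := by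
  funext i
  simp [mv, Matrix.mulVec, dotProduct, Fin.sum_univ_succ]
  ring

/-- The invariant product on the seven dimensional module. -/
def P (u v : Fin 7 → R) : Fin 7 → R :=
  ![0 - u 1 * v 6 + u 2 * v 5 + u 3 * v 4 - u 4 * v 3 - u 5 * v 2 + u 6 * v 1,
    u 0 * v 1 - u 1 * v 0 - u 2 * v 3 + u 3 * v 2,
    0 - u 0 * v 2 - u 1 * v 4 + u 2 * v 0 + u 4 * v 1,
    0 - u 0 * v 3 + u 1 * v 5 + u 3 * v 0 - u 5 * v 1,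
    u 0 * v 4 + u 2 * v 6 - u 4 * v 0 - u 6 * v 2,
    u 0 * v 5 - u 3 * v 6 - u 5 * v 0 + u 6 * v 3,
    0 - u 0 * v 6 - u 4 * v 5 + u 5 * v 4 + u 6 * v 0]

/-- Restriction of the root elements to the module. -/
def rT : Fin 12 → M7 :=
  ![!![1, 0, 0, 0, 0, 0, 0; 0, 1, 0, 0, 0, 1, 0; 0, 0, 1, 0, 0, 0, 2; 0, 0, 0, 1, 0, 0, 0; 0, 0, 0, 0, 1, 0, 0; 0, 0, 0, 0, 0, 1, 0; 0, 0, 0, 0, 0, 0, 1],
    !![1, 0, 0, 0, 0, 0, 0; 0, 1, 0, 0, 1, 0, 0; 0, 0, 1, 0, 0, 0, 0; 0, 0, 0, 1, 0, 0, 2; 0, 0, 0, 0, 1, 0, 0; 0, 0, 0, 0, 0, 1, 0; 0, 0, 0, 0, 0, 0, 1],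
    !![1, 0, 0, 0, 0, 0, 1; 1, 1, 0, 0, 0, 0, 2; 0, 0, 1, 0, 1, 0, 0; 0, 0, 0, 1, 0, 2, 0; 0, 0, 0, 0, 1, 0, 0; 0, 0, 0, 0, 0, 1, 0; 0, 0, 0, 0, 0, 0, 1],
    !![1, 0, 0, 0, 0, 2, 0; 0, 1, 0, 1, 0, 0, 0; 2, 0, 1, 0, 0, 2, 0; 0, 0, 0, 1, 0, 0, 0; 0, 0, 0, 0, 1, 0, 2; 0, 0, 0, 0, 0, 1, 0; 0, 0, 0, 0, 0, 0, 1],
    !![1, 0, 0, 0, 2, 0, 0; 0, 1, 2, 0, 0, 0, 0; 0, 0, 1, 0, 0, 0, 0; 2, 0, 0, 1, 2, 0, 0; 0, 0, 0, 0, 1, 0, 0; 0, 0, 0, 0, 0, 1, 1; 0, 0, 0, 0, 0, 0, 1],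
    !![1, 0, 0, 0, 0, 0, 0; 0, 1, 0, 0, 0, 0, 0; 0, 0, 1, 2, 0, 0, 0; 0, 0, 0, 1, 0, 0, 0; 0, 0, 0, 0, 1, 1, 0; 0, 0, 0, 0, 0, 1, 0; 0, 0, 0, 0, 0, 0, 1],
    !![1, 0, 0, 0, 0, 0, 0; 0, 1, 0, 0, 0, 0, 0; 0, 0, 1, 0, 0, 0, 0; 0, 0, 2, 1, 0, 0, 0; 0, 0, 0, 0, 1, 0, 0; 0, 0, 0, 0, 1, 1, 0; 0, 0, 0, 0, 0, 0, 1],
    !![1, 0, 0, 1, 0, 0, 0; 0, 1, 0, 0, 0, 0, 0; 0, 2, 1, 0, 0, 0, 0; 0, 0, 0, 1, 0, 0, 0; 1, 0, 0, 2, 1, 0, 0; 0, 0, 0, 0, 0, 1, 0; 0, 0, 0, 0, 0, 1, 1],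
    !![1, 0, 1, 0, 0, 0, 0; 0, 1, 0, 0, 0, 0, 0; 0, 0, 1, 0, 0, 0, 0; 0, 1, 0, 1, 0, 0, 0; 0, 0, 0, 0, 1, 0, 0; 1, 0, 2, 0, 0, 1, 0; 0, 0, 0, 0, 2, 0, 1],
    !![1, 2, 0, 0, 0, 0, 0; 0, 1, 0, 0, 0, 0, 0; 0, 0, 1, 0, 0, 0, 0; 0, 0, 0, 1, 0, 0, 0; 0, 0, 1, 0, 1, 0, 0; 0, 0, 0, 2, 0, 1, 0; 2, 2, 0, 0, 0, 0, 1],
    !![1, 0, 0, 0, 0, 0, 0; 0, 1, 0, 0, 0, 0, 0; 0, 0, 1, 0, 0, 0, 0; 0, 0, 0, 1, 0, 0, 0; 0, 1, 0, 0, 1, 0, 0; 0, 0, 0, 0, 0, 1, 0; 0, 0, 0, 2, 0, 0, 1],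
    !![1, 0, 0, 0, 0, 0, 0; 0, 1, 0, 0, 0, 0, 0; 0, 0, 1, 0, 0, 0, 0; 0, 0, 0, 1, 0, 0, 0; 0, 0, 0, 0, 1, 0, 0; 0, 1, 0, 0, 0, 1, 0; 0, 0, 2, 0, 0, 0, 1]]

/-- The root elements. -/
abbrev xx (r : Fin 12) (t : R) : Matrix Idx Idx R := chevG2.xMat R r t

/-- Check of one entry. -/
def E1 (r : Fin 12) (k j : Fin 7) : Bool := decide (xx r 1 (J k) (J j) = rT r k j)

/-- Check of one entry. -/
def E2 (r : Fin 12) (k j : Fin 7) : Bool := decide (xx r 1 (J' k) (J j) = 0)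

theorem xx_J0 : ∀ (r : Fin 12) (k j : Fin 7), E1 r k j = true := by
  decide +kernel

theorem xx_J0' : ∀ (r : Fin 12) (k j : Fin 7), E2 r k j = true := by
  decide +kernel

theorem xx_J (r : Fin 12) (k j : Fin 7) : xx r 1 (J k) (J j) = rT r k j :=
  of_decide_eq_true (xx_J0 r k j)

theorem xx_J' (r : Fin 12) (k j : Fin 7) : xx r 1 (J' k) (J j) = 0 :=
  of_decide_eq_true (xx_J0' r k j)

/-- Check of invariance of the product. -/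
def E3 (r : Fin 12) (a b : Fin 7) : Bool :=
  eqV (mv (rT r) (P (Pi.single a 1) (Pi.single b 1))) (P (fun i => rT r i a) (fun i => rT r i b))

theorem rT_pres0 : ∀ (r : Fin 12) (a b : Fin 7), E3 r a b = true := by
  decide +kernel

/-- The restricted element. -/
def aM : M7 := !![1, 2, 0, 0, 0, 2, 0; 0, 2, 1, 1, 1, 1, 2; 2, 2, 2, 0, 0, 2, 2; 0, 0, 1, 1, 0, 0, 2; 0, 0, 1, 0, 1, 0, 2; 0, 1, 0, 0, 0, 1, 0; 0, 0, 2, 0, 0, 0, 1]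

/-- A power of the restricted element. -/
def aP : M7 := !![2, 1, 0, 1, 1, 2, 2; 1, 1, 0, 1, 1, 0, 1; 2, 0, 1, 1, 1, 1, 0; 1, 0, 2, 0, 2, 1, 2; 1, 0, 2, 2, 0, 1, 2; 2, 1, 2, 1, 1, 1, 2; 1, 2, 2, 1, 1, 1, 1]

/-- A polynomial in the restricted element. -/
def aL : M7 := !![2, 0, 2, 1, 1, 0, 2; 1, 1, 2, 0, 0, 0, 1; 0, 1, 1, 1, 1, 1, 0; 1, 2, 0, 2, 0, 1, 0; 1, 2, 0, 0, 2, 1, 0; 1, 0, 2, 0, 0, 1, 0; 0, 2, 0, 2, 2, 0, 1]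

/-- The coefficients of this polynomial. -/
def ac : Fin 7 → R := ![1, 0, 0, 1, 2, 2, 2]

/-- The cyclic vector. -/
def av : Fin 7 → R := ![0, 0, 0, 0, 1, 0, 0]

/-- The cyclic basis. -/
def aC : M7 := !![0, 0, 2, 1, 2, 1, 0; 0, 1, 0, 1, 2, 0, 2; 0, 0, 2, 1, 1, 2, 0; 0, 0, 0, 2, 2, 0, 0; 1, 1, 1, 0, 0, 1, 1; 0, 0, 1, 1, 2, 1, 1; 0, 0, 0, 1, 0, 2, 0]

/-- The inverse of the cyclic basis. -/
def aCi : M7 := !![0, 2, 2, 2, 1, 1, 0; 2, 1, 2, 1, 0, 1, 1; 2, 0, 0, 1, 0, 0, 2; 1, 0, 2, 1, 0, 0, 2; 2, 0, 1, 1, 0, 0, 1; 1, 0, 2, 1, 0, 0, 1; 1, 0, 0, 1, 0, 1, 2]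

/-- The orbit of the cyclic vector. -/
def aW : Fin 7 → Fin 7 → R :=
  ![![0, 0, 0, 0, 1, 0, 0],
    ![0, 1, 0, 0, 1, 0, 0],
    ![2, 0, 2, 0, 1, 1, 0],
    ![1, 1, 1, 2, 0, 1, 1],
    ![2, 2, 1, 2, 0, 2, 0],
    ![1, 0, 2, 0, 1, 1, 2],
    ![0, 2, 0, 0, 1, 1, 0]]

/-- The final check. -/
def achk (w : Fin 7 → R) : Bool :=
  !eqV (mv aL w) (P w (mv aP w)) || eqV w 0 || (List.finRange 7).any fun i => eqV w (aW i)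

theorem achk_all : ∀ a0 a1 a2 a3 a4 a5 a6 : R, achk ![a0, a1, a2, a3, a4, a5, a6] = true := by
  decide +kernel

theorem aM_eq : eqM aM (rT 0*rT 1*rT 3*rT 11) = true := by
  decide +kernel

theorem aP_eq : eqM aP (aM ^ 3) = true := by
  decide +kernel

theorem aL_eq : eqM aL (∑ i : Fin 7, ac i • aM ^ (i : ℕ)) = true := by
  decide +kernel

theorem av_eq : eqV (P av (aP *ᵥ av)) (aL *ᵥ av) = true := by
  decide +kernel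

theorem aC_eq : ∀ i : Fin 7, eqV (aM ^ (i : ℕ) *ᵥ av) (fun r => aC r i) = true := by
  decide +kernel

theorem aCC : eqM (aC * aCi) 1 = true := by
  decide +kernel

theorem aW_eq : ∀ i : Fin 7, eqV (aM ^ (i : ℕ) *ᵥ av) (aW i) = true := by
  decide +kernel

theorem apow : eqM (aM ^ 7) 1 = true := by
  decide +kernel

theorem ane : eqM aM 1 = false := by
  decide +kernel

/-- The restricted element. -/
def bM : M7 := !![1, 2, 2, 0, 2, 0, 0; 2, 0, 2, 2, 0, 1, 1; 1, 1, 1, 0, 0, 0, 2; 2, 1, 2, 1, 2, 0, 0; 0, 0, 1, 0, 1, 0, 0; 2, 2, 0, 2, 0, 1, 1; 2, 2, 0, 0, 0, 0, 1]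

/-- A power of the restricted element. -/
def bP : M7 := !![1, 2, 2, 0, 2, 0, 0; 2, 0, 2, 2, 0, 1, 1; 1, 1, 1, 0, 0, 0, 2; 2, 1, 2, 1, 2, 0, 0; 0, 0, 1, 0, 1, 0, 0; 2, 2, 0, 2, 0, 1, 1; 2, 2, 0, 0, 0, 0, 1]

/-- A polynomial in the restricted element. -/
def bL : M7 := !![1, 0, 0, 0, 0, 2, 1; 1, 2, 0, 1, 0, 0, 0; 1, 2, 1, 0, 1, 0, 0; 0, 1, 2, 1, 1, 2, 0; 1, 0, 0, 1, 0, 0, 1; 0, 2, 0, 0, 2, 0, 0; 0, 1, 2, 0, 1, 0, 0]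

/-- The coefficients of this polynomial. -/
def bc : Fin 7 → R := ![1, 1, 2, 1, 0, 2, 0]

/-- The cyclic vector. -/
def bv : Fin 7 → R := ![0, 0, 0, 0, 0, 0, 1]

/-- The cyclic basis. -/
def bC : M7 := !![0, 0, 0, 2, 2, 1, 0; 0, 1, 0, 0, 0, 1, 2; 0, 2, 2, 2, 1, 2, 2; 0, 0, 2, 1, 2, 2, 2; 0, 0, 2, 1, 0, 1, 0; 0, 1, 1, 2, 2, 2, 0; 1, 1, 0, 0, 1, 2, 0]

/-- The inverse of the cyclic basis. -/
def bCi : M7 := !![1, 2, 1, 0, 0, 1, 1; 0, 2, 0, 1, 1, 2, 0; 1, 1, 2, 0, 1, 1, 0; 0, 1, 1, 1, 1, 0, 0; 0, 2, 0, 1, 0, 1, 0; 1, 0, 1, 2, 1, 1, 0; 1, 1, 1, 0, 2, 0, 0]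

/-- The orbit of the cyclic vector. -/
def bW : Fin 13 → Fin 7 → R :=
  ![![0, 0, 0, 0, 0, 0, 1],
    ![0, 1, 2, 0, 0, 1, 1],
    ![0, 0, 2, 2, 2, 1, 0],
    ![2, 0, 2, 1, 1, 2, 0],
    ![2, 0, 1, 2, 0, 2, 1],
    ![1, 1, 2, 2, 1, 2, 2],
    ![0, 2, 2, 2, 0, 0, 0],
    ![2, 2, 1, 2, 2, 2, 1],
    ![0, 1, 1, 2, 0, 0, 0],
    ![1, 0, 2, 2, 1, 0, 2],
    ![1, 0, 1, 1, 0, 2, 1],
    ![0, 0, 1, 2, 1, 1, 0],
    ![1, 1, 1, 0, 2, 2, 0]]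

/-- The final check. -/
def bchk (w : Fin 7 → R) : Bool :=
  !eqV (mv bL w) (P w (mv bP w)) || eqV w 0 || (List.finRange 13).any fun i => eqV w (bW i)

theorem bchk_all : ∀ a0 a1 a2 a3 a4 a5 a6 : R, bchk ![a0, a1, a2, a3, a4, a5, a6] = true := by
  decide +kernel

theorem bM_eq : eqM bM (rT 0*rT 4*rT 9) = true := by
  decide +kernel

theorem bP_eq : eqM bP (bM ^ 1) = true := by
  decide +kernel

theorem bL_eq : eqM bL (∑ i : Fin 7, bc i • bM ^ (i : ℕ)) = true := by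
  decide +kernel

theorem bv_eq : eqV (P bv (bP *ᵥ bv)) (bL *ᵥ bv) = true := by
  decide +kernel

theorem bC_eq : ∀ i : Fin 7, eqV (bM ^ (i : ℕ) *ᵥ bv) (fun r => bC r i) = true := by
  decide +kernel

theorem bCC : eqM (bC * bCi) 1 = true := by
  decide +kernel

theorem bW_eq : ∀ i : Fin 13, eqV (bM ^ (i : ℕ) *ᵥ bv) (bW i) = true := by
  decide +kernel

theorem bpow : eqM (bM ^ 13) 1 = true := by
  decide +kernel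

theorem bne : eqM bM 1 = false := by
  decide +kernel

/-- The element of order six. -/
def eM : M7 := !![1, 0, 0, 0, 0, 0, 0; 0, 0, 0, 0, 0, 2, 0; 0, 0, 0, 0, 0, 0, 1; 0, 0, 0, 1, 0, 0, 0; 0, 0, 0, 0, 1, 0, 0; 0, 1, 0, 0, 0, 1, 0; 0, 0, 2, 0, 0, 0, 1]

theorem eM_eq : eqM eM (rT 0 * rT 0 * rT 11) = true := by
  decide +kernel

theorem eM_six : eqM (eM ^ 6) 1 = true := by
  decide +kernel

theorem eM_two : eqM (eM ^ 2) 1 = false := by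
  decide +kernel

theorem eM_three : eqM (eM ^ 3) 1 = false := by
  decide +kernel

end Cfsg.Agent.Lib.Known3.G23
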