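import Mathlib
import Cfsg.Agent.Lib.Known3.GL42d

/-! Subgroups of `GL₄(2)` fixing a nonzero vector or covector embed in `GL₃(2)`. -/

set_option autoImplicit false
set_option linter.unusedSectionVars false

namespace Cfsg.Agent.Lib.Known3.GL42

open Matrix

local notation "Mat4" => Matrix (Fin 4) (Fin 4) (ZMod 2)

/-- The vector `e₃`. -/
def e3 : Fin 4 → ZMod 2 := ![0, 0, 0, 1]

/-- Matrices carrying nonzero vectors to `e₃`. -/
def transList : List (Mat4 × Mat4) := [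
    (!![1, 0, 0, 0; 0, 1, 0, 0; 0, 0, 1, 0; 0, 0, 0, 1], !![1, 0, 0, 0; 0, 1, 0, 0; 0, 0, 1, 0; 0, 0, 0, 1]),
    (!![1, 0, 0, 0; 0, 1, 0, 0; 0, 0, 0, 1; 0, 0, 1, 0], !![1, 0, 0, 0; 0, 1, 0, 0; 0, 0, 0, 1; 0, 0, 1, 0]),
    (!![1, 0, 0, 0; 0, 1, 0, 0; 0, 0, 1, 1; 0, 0, 1, 0], !![1, 0, 0, 0; 0, 1, 0, 0; 0, 0, 0, 1; 0, 0, 1, 1]),
    (!![1, 0, 0, 0; 0, 0, 0, 1; 0, 0, 1, 0; 0, 1, 0, 0], !![1, 0, 0, 0; 0, 0, 0, 1; 0, 0, 1, 0; 0, 1, 0, 0]),
    (!![1, 0, 0, 0; 0, 1, 0, 1; 0, 0, 1, 0; 0, 1, 0, 0], !![1, 0, 0, 0; 0, 0, 0, 1; 0, 0, 1, 0; 0, 1, 0, 1]),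
    (!![1, 0, 0, 0; 0, 0, 0, 1; 0, 1, 1, 0; 0, 1, 0, 0], !![1, 0, 0, 0; 0, 0, 0, 1; 0, 0, 1, 1; 0, 1, 0, 0]),
    (!![1, 0, 0, 0; 0, 1, 0, 1; 0, 1, 1, 0; 0, 1, 0, 0], !![1, 0, 0, 0; 0, 0, 0, 1; 0, 0, 1, 1; 0, 1, 0, 1]),
    (!![0, 0, 0, 1; 0, 1, 0, 0; 0, 0, 1, 0; 1, 0, 0, 0], !![0, 0, 0, 1; 0, 1, 0, 0; 0, 0, 1, 0; 1, 0, 0, 0]),
    (!![1, 0, 0, 1; 0, 1, 0, 0; 0, 0, 1, 0; 1, 0, 0, 0], !![0, 0, 0, 1; 0, 1, 0, 0; 0, 0, 1, 0; 1, 0, 0, 1]),
    (!![0, 0, 0, 1; 0, 1, 0, 0; 1, 0, 1, 0; 1, 0, 0, 0], !![0, 0, 0, 1; 0, 1, 0, 0; 0, 0, 1, 1; 1, 0, 0, 0]),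
    (!![1, 0, 0, 1; 0, 1, 0, 0; 1, 0, 1, 0; 1, 0, 0, 0], !![0, 0, 0, 1; 0, 1, 0, 0; 0, 0, 1, 1; 1, 0, 0, 1]),
    (!![0, 0, 0, 1; 1, 1, 0, 0; 0, 0, 1, 0; 1, 0, 0, 0], !![0, 0, 0, 1; 0, 1, 0, 1; 0, 0, 1, 0; 1, 0, 0, 0]),
    (!![1, 0, 0, 1; 1, 1, 0, 0; 0, 0, 1, 0; 1, 0, 0, 0], !![0, 0, 0, 1; 0, 1, 0, 1; 0, 0, 1, 0; 1, 0, 0, 1]),
    (!![0, 0, 0, 1; 1, 1, 0, 0; 1, 0, 1, 0; 1, 0, 0, 0], !![0, 0, 0, 1; 0, 1, 0, 1; 0, 0, 1, 1; 1, 0, 0, 0]),
    (!![1, 0, 0, 1; 1, 1, 0, 0; 1, 0, 1, 0; 1, 0, 0, 0], !![0, 0, 0, 1; 0, 1, 0, 1; 0, 0, 1, 1; 1, 0, 0, 1])]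

theorem exists_trans_aux : ∀ v : Fin 4 → ZMod 2, v ≠ 0 → ∃ p ∈ transList, p.1 * p.2 = 1 ∧ p.2 * p.1 = 1 ∧ p.1 *ᵥ v = e3 := by
  decide +kernel

theorem exists_trans (v : Fin 4 → ZMod 2) (hv : v ≠ 0) : ∃ g : GL (Fin 4) (ZMod 2), g.1 *ᵥ v = e3 := by
  obtain ⟨p, -, h1, h2, h3⟩ := exists_trans_aux v hv
  exact ⟨⟨p.1, p.2, h1, h2⟩, h3⟩

/-- The stabilizer of `e₃`. -/
def stabE : Subgroup (GL (Fin 4) (ZMod 2)) where
  carrier := {g | g.1 *ᵥ e3 = e3}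
  mul_mem' := by
    intro a b ha hb
    show (a * b).1 *ᵥ e3 = e3
    have ha' : a.1 *ᵥ e3 = e3 := ha
    have hb' : b.1 *ᵥ e3 = e3 := hb
    rw [Units.val_mul, ← Matrix.mulVec_mulVec, hb', ha']
  one_mem' := by
    show (1 : GL (Fin 4) (ZMod 2)).1 *ᵥ e3 = e3
    simp
  inv_mem' := by
    intro a ha
    show (a⁻¹).1 *ᵥ e3 = e3
    have ha' : a.1 *ᵥ e3 = e3 := ha
    conv_lhs => rw [← ha']
    rw [Matrix.mulVec_mulVec, ← Units.val_mul]
    simp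

lemma stabE_col {g : GL (Fin 4) (ZMod 2)} (hg : g ∈ stabE) (i : Fin 4) : g.1 i 3 = if i = 3 then 1 else 0 := by
  have h : g.1 *ᵥ e3 = e3 := hg
  have := congrFun h i
  simp only [mulVec, dotProduct, Fin.sum_univ_four, e3] at this
  fin_cases i <;> simpa using this

/-- The block. -/
def blk (A : Mat4) : Matrix (Fin 3) (Fin 3) (ZMod 2) := fun i j => A i.castSucc j.castSucc

lemma blk_mul (A B : Mat4) (hA : ∀ i : Fin 3, A i.castSucc 3 = 0) : blk (A * B) = blk A * blk B := by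
  ext i j
  simp only [blk, Matrix.mul_apply, Fin.sum_univ_castSucc]
  have : Fin.last 3 = (3 : Fin 4) := rfl
  rw [this, hA i]
  simp

lemma blk_one : blk (1 : Mat4) = 1 := by
  ext i j
  simp only [blk, Matrix.one_apply, Fin.castSucc_inj]

/-- The homomorphism on the stabilizer. -/
def psi0 : stabE →* Matrix (Fin 3) (Fin 3) (ZMod 2) where
  toFun g := blk g.1.1
  map_one' := blk_one
  map_mul' a b := by
    refine blk_mul _ _ (fun i => ?_)
    rw [stabE_col a.2]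
    simp only [Fin.ext_iff]
    have := i.2
    simp
    omega

lemma psi0_sq (g : stabE) (h : psi0 g = 1) : g * g = 1 := by
  have hc := stabE_col g.2
  have hb : ∀ i j : Fin 3, g.1.1 i.castSucc j.castSucc = if i = j then 1 else 0 := by
    intro i j
    have := congrFun (congrFun h i) j
    simpa [psi0, blk, Matrix.one_apply] using this
  have h00 := hb 0 0
  have h01 := hb 0 1
  have h02 := hb 0 2
  have h10 := hb 1 0
  have h11 := hb 1 1
  have h12 := hb 1 2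
  have h20 := hb 2 0
  have h21 := hb 2 1
  have h22 := hb 2 2
  have c0 := hc 0
  have c1 := hc 1
  have c2 := hc 2
  have c3 := hc 3
  simp at h00 h01 h02 h10 h11 h12 h20 h21 h22 c0 c1 c2 c3
  apply Subtype.ext
  apply Units.ext
  ext i j
  show (g.1.1 * g.1.1) i j = (1 : Mat4) i j
  simp only [Matrix.mul_apply, Fin.sum_univ_four]
  fin_cases i <;> fin_cases j <;> simp [h00, h01, h02, h10, h11, h12, h20, h21, h22, c0, c1, c2, c3, Matrix.one_apply, CharTwo.add_self_eq_zero]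


/-- A subgroup fixing a nonzero vector embeds in `GL₃(2)`. -/
theorem embed_of_fix (H : Subgroup (GL (Fin 4) (ZMod 2))) (hNS : NS H) (v : Fin 4 → ZMod 2) (hv : v ≠ 0)
    (hfix : ∀ h ∈ H, h.1 *ᵥ v = v) : ∃ ψ : H →* GL (Fin 3) (ZMod 2), Function.Injective ψ := by
  obtain ⟨g₀, hg₀⟩ := exists_trans v hv
  have hg₀' : (g₀⁻¹).1 *ᵥ e3 = v := by
    rw [← hg₀, Matrix.mulVec_mulVec, ← Units.val_mul]
    simp
  have hmem : ∀ h : H, g₀ * (h : GL (Fin 4) (ZMod 2)) * g₀⁻¹ ∈ stabE := by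
    intro h
    show (g₀ * (h : GL (Fin 4) (ZMod 2)) * g₀⁻¹).1 *ᵥ e3 = e3
    rw [Units.val_mul, Units.val_mul, ← Matrix.mulVec_mulVec, ← Matrix.mulVec_mulVec, hg₀', hfix h h.2, hg₀]
  let c : H →* stabE :=
    { toFun := fun h => ⟨g₀ * (h : GL (Fin 4) (ZMod 2)) * g₀⁻¹, hmem h⟩
      map_one' := by
        apply Subtype.ext
        simp
      map_mul' := by
        intro a b
        apply Subtype.ext
        simp [mul_assoc] }
  let ψ : H →* GL (Fin 3) (ZMod 2) := (psi0.comp c).toHomUnits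
  refine ⟨ψ, (MonoidHom.ker_eq_bot_iff _).1 ?_⟩
  apply hNS _ inferInstance
  have hsq : ∀ x : ψ.ker, x * x = 1 := by
    intro x
    have h1 : ψ (x : H) = 1 := x.2
    have h2 : psi0 (c (x : H)) = 1 := by
      have := congrArg Units.val h1
      simpa [ψ] using this
    have h3 := psi0_sq _ h2
    have h4 : c ((x : H) * (x : H)) = 1 := by
      rw [map_mul, h3]
    apply Subtype.ext
    apply Subtype.ext
    have h5 := congrArg (fun y : stabE => (y : GL (Fin 4) (ZMod 2))) h4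
    have h6 : g₀ * ((x : H) * (x : H) : GL (Fin 4) (ZMod 2)) * g₀⁻¹ = 1 := h5
    have h7 : ((x : H) * (x : H) : GL (Fin 4) (ZMod 2)) = g₀⁻¹ * (g₀ * ((x : H) * (x : H) : GL (Fin 4) (ZMod 2)) * g₀⁻¹) * g₀ := by
      group
    rw [h6] at h7
    simpa using h7
  apply isSolvable_of_comm
  intro a b
  have h1 := hsq (a * b)
  have h2 := hsq a
  have h3 := hsq b
  have ha : a⁻¹ = a := inv_eq_of_mul_eq_one_left h2
  have hb : b⁻¹ = b := inv_eq_of_mul_eq_one_left h3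
  have hab : (a * b)⁻¹ = a * b := inv_eq_of_mul_eq_one_left h1
  rw [_root_.mul_inv_rev, ha, hb] at hab
  exact hab.symm

/-- Inverse transpose. -/
def tauG : GL (Fin 4) (ZMod 2) →* GL (Fin 4) (ZMod 2) where
  toFun g := ⟨(g⁻¹).1ᵀ, g.1ᵀ, by
      rw [← Matrix.transpose_mul, ← Units.val_mul]
      simp, by
      rw [← Matrix.transpose_mul, ← Units.val_mul]
      simp⟩
  map_one' := by
    apply Units.ext
    simp
  map_mul' a b := by
    apply Units.ext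
    simp [Matrix.transpose_mul]

lemma tauG_val (g : GL (Fin 4) (ZMod 2)) : (tauG g).1 = (g⁻¹).1ᵀ := rfl

lemma tauG_inj : Function.Injective tauG := by
  intro a b h
  have h1 : (a⁻¹).1ᵀ = (b⁻¹).1ᵀ := congrArg Units.val h
  have h2 : (a⁻¹).1 = (b⁻¹).1 := Matrix.transpose_injective h1
  exact inv_injective (Units.ext h2)

/-- A subgroup fixing a nonzero covector embeds in `GL₃(2)`. -/
theorem embed_of_cofix (H : Subgroup (GL (Fin 4) (ZMod 2))) (hNS : NS H) (φ : Fin 4 → ZMod 2) (hφ : φ ≠ 0)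
    (hfix : ∀ h ∈ H, φ ᵥ* h.1 = φ) : ∃ ψ : H →* GL (Fin 3) (ZMod 2), Function.Injective ψ := by
  let H' := H.map tauG
  let i : H ≃* H' := H.equivMapOfInjective tauG tauG_inj
  have hNS' : NS H' := hNS.of_equiv i
  obtain ⟨ψ, hψ⟩ := embed_of_fix H' hNS' φ hφ (by
    rintro _ ⟨h, hh, rfl⟩
    rw [tauG_val, Matrix.mulVec_transpose]
    exact hfix _ (H.inv_mem hh))
  exact ⟨ψ.comp i.toMonoidHom, hψ.comp i.injective⟩

lemma card_GL3 : Nat.card (GL (Fin 3) (ZMod 2)) = 168 := by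
  rw [Matrix.card_GL_field]
  simp [ZMod.card, Fin.prod_univ_three]

lemma card_GL4 : Nat.card (GL (Fin 4) (ZMod 2)) = 20160 := by
  rw [Matrix.card_GL_field]
  simp [ZMod.card, Fin.prod_univ_four]

/-- An embedding in `GL₃(2)` is an isomorphism. -/
theorem iso_of_embed {H : Type*} [Group H] [Finite H] (hNS : NS H) (h7 : 7 ∣ Nat.card H)
    (ψ : H →* GL (Fin 3) (ZMod 2)) (hψ : Function.Injective ψ) : Nonempty (H ≃* GL (Fin 3) (ZMod 2)) := by
  haveI : Fact (Nat.Prime 7) := ⟨by norm_num⟩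
  have hd : Nat.card H ∣ 168 := by
    rw [← card_GL3]
    exact Subgroup.card_dvd_of_injective ψ hψ
  haveI : Nontrivial H := by
    apply (Finite.one_lt_card_iff_nontrivial).1
    have := Nat.le_of_dvd Nat.card_pos h7
    omega
  have hns := hNS.not_solvable
  have h27 : ∀ a b, Nat.card H = 2 ^ a * 7 ^ b → False := fun a b hc =>
    hns (Cfsg.Agent.Lib.Char.isSolvable_of_card 2 7 a b Nat.prime_two (by norm_num) hc)
  have h37 : ∀ a b, Nat.card H = 3 ^ a * 7 ^ b → False := fun a b hc =>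
    hns (Cfsg.Agent.Lib.Char.isSolvable_of_card 3 7 a b Nat.prime_three (by norm_num) hc)
  have hSyl : Nat.card H ∣ 84 → False := by
    intro h84
    let P : Sylow 7 H := default
    have h1 : Nat.card (Sylow 7 H) ≡ 1 [MOD 7] := card_sylow_modEq_one 7 H
    have h2 : Nat.card (Sylow 7 H) = (Subgroup.normalizer ((P : Subgroup H) : Set H)).index := Sylow.card_eq_index_normalizer P
    have h3 : Nat.card (Sylow 7 H) ∣ 84 := by
      rw [h2]
      exact (Subgroup.index_dvd_card _).trans h84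
    have h4 : Nat.card (Sylow 7 H) = 1 := by
      have hle := Nat.le_of_dvd (by norm_num) h3
      have hpos : 0 < Nat.card (Sylow 7 H) := Nat.card_pos
      unfold Nat.ModEq at h1
      generalize Nat.card (Sylow 7 H) = n at *
      interval_cases n <;> omega
    haveI : Subsingleton (Sylow 7 H) := (Nat.card_eq_one_iff_unique.1 h4).1
    have hPn : (P : Subgroup H).Normal := Sylow.normal_of_subsingleton P
    have hPs : Group.IsSolvable (P : Subgroup H) := by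
      have := P.isPGroup'.isNilpotent
      infer_instance
    have hbot := hNS _ hPn hPs
    exact P.ne_bot_of_dvd_card h7 hbot
  have hc : Nat.card H = 168 := by
    obtain ⟨k, hk⟩ := h7
    have hk24 : k ∣ 24 := by
      rw [hk] at hd
      exact Nat.dvd_of_mul_dvd_mul_left (by norm_num : 0 < 7) hd
    have hle := Nat.le_of_dvd (by norm_num) hk24
    have hpos : 0 < k := Nat.pos_of_dvd_of_pos hk24 (by norm_num)
    have hkc : k = 1 ∨ k = 2 ∨ k = 3 ∨ k = 4 ∨ k = 6 ∨ k = 8 ∨ k = 12 ∨ k = 24 := by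
      interval_cases k <;> omega
    rcases hkc with rfl | rfl | rfl | rfl | rfl | rfl | rfl | rfl
    · exact (h27 0 1 (by rw [hk] <;> norm_num)).elim
    · exact (h27 1 1 (by rw [hk] <;> norm_num)).elim
    · exact (h37 1 1 (by rw [hk] <;> norm_num)).elim
    · exact (h27 2 1 (by rw [hk] <;> norm_num)).elim
    · exact (hSyl (by rw [hk] <;> norm_num)).elim
    · exact (h27 3 1 (by rw [hk] <;> norm_num)).elim
    · exact (hSyl (by rw [hk] <;> norm_num)).elim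
    · rw [hk]
  have hbij : Function.Bijective ψ := by
    apply Function.Injective.bijective_of_nat_card_le hψ
    rw [hc, card_GL3]
  exact ⟨MulEquiv.ofBijective ψ hbij⟩

end Cfsg.Agent.Lib.Known3.GL42
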