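import Cfsg.Prelude.Def_Classical
import Mathlib

set_option autoImplicit false

namespace Cfsg.Agent.Lib.Known3.Gram

open Module Matrix

variable {F : Type*} [Field F] {V : Type*} [AddCommGroup V] [Module F V]

/-- The square class of the determinant of a Gram matrix does not depend on the basis. -/
theorem isSquare_det_toMatrix_iff (B : LinearMap.BilinForm F V)
    {ι κ : Type*} [Fintype ι] [DecidableEq ι] [Fintype κ] [DecidableEq κ]
    (b : Basis ι F V) (c : Basis κ F V) :
    IsSquare (LinearMap.BilinForm.toMatrix b B).det ↔ IsSquare (LinearMap.BilinForm.toMatrix c B).det := by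
  let e : κ ≃ ι := c.indexEquiv b
  let c' : Basis ι F V := c.reindex e
  have h1 : LinearMap.BilinForm.toMatrix c' B = (LinearMap.BilinForm.toMatrix c B).submatrix e.symm e.symm := by
    ext i j
    simp [LinearMap.BilinForm.toMatrix_apply, c']
  have h2 : (LinearMap.BilinForm.toMatrix c' B).det = (LinearMap.BilinForm.toMatrix c B).det := by
    rw [h1, Matrix.det_submatrix_equiv_self]
  rw [← h2]
  have h3 := LinearMap.BilinForm.toMatrix_mul_basis_toMatrix b c' B
  have h4 := congrArg Matrix.det h3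
  rw [Matrix.det_mul, Matrix.det_mul, Matrix.det_transpose] at h4
  set p := (b.toMatrix c').det with hp
  have hp0 : p ≠ 0 := by
    have : IsUnit (b.toMatrix c') :=
      letI := Module.Basis.invertibleToMatrix b c'
      isUnit_of_invertible _
    exact ((Matrix.isUnit_iff_isUnit_det _).1 this).ne_zero
  rw [← h4]
  constructor
  · rintro ⟨s, hs⟩
    exact ⟨p * s, by rw [hs]; ring⟩
  · rintro ⟨s, hs⟩
    refine ⟨s / p, ?_⟩
    field_simp
    linear_combination hs

/-- A Gram matrix of the polar form of a function agrees with that of a bilinear form representing the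
polar form. -/
theorem gram_eq_toMatrix {f : V → F} (B : LinearMap.BilinForm F V)
    (hf : ∀ u v, QuadraticMap.polar f u v = B u v)
    {ι : Type*} [Fintype ι] [DecidableEq ι] (b : Basis ι F V) :
    Matrix.of (fun i j : ι => QuadraticMap.polar f (b i) (b j)) = LinearMap.BilinForm.toMatrix b B := by
  ext i j
  simp [LinearMap.BilinForm.toMatrix_apply, hf]

/-- Square class of the Gram determinant in an arbitrary basis versus a matrix representing the form in
the standard basis. -/
theorem isSquare_gram_iff {κ : Type*} [Fintype κ] [DecidableEq κ] {f : (κ → F) → F} (G : Matrix κ κ F)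
    (hf : ∀ u v, QuadraticMap.polar f u v = Matrix.toBilin' G u v)
    {ι : Type*} [Fintype ι] [DecidableEq ι] (b : Basis ι F (κ → F)) :
    IsSquare (Matrix.of (fun i j : ι => QuadraticMap.polar f (b i) (b j))).det ↔ IsSquare G.det := by
  rw [gram_eq_toMatrix _ hf, isSquare_det_toMatrix_iff _ b (Pi.basisFun F κ),
    LinearMap.BilinForm.toMatrix_basisFun, LinearMap.BilinForm.toMatrix'_toBilin']

/-- The determinant of the hyperbolic block matrix. -/
theorem det_hyperbolic (m : ℕ) :
    (Matrix.fromBlocks (0 : Matrix (Fin m) (Fin m) F) (1 : Matrix (Fin m) (Fin m) F) (1 : Matrix (Fin m) (Fin m) F) (0 : Matrix (Fin m) (Fin m) F)).det = (-1) ^ m := by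
  have h1 : (Matrix.fromBlocks (0 : Matrix (Fin m) (Fin m) F) (1 : Matrix (Fin m) (Fin m) F) (1 : Matrix (Fin m) (Fin m) F) (0 : Matrix (Fin m) (Fin m) F)) * (Matrix.fromBlocks (1 : Matrix (Fin m) (Fin m) F) (0 : Matrix (Fin m) (Fin m) F) (1 : Matrix (Fin m) (Fin m) F) (1 : Matrix (Fin m) (Fin m) F))
      = Matrix.fromBlocks (1 : Matrix (Fin m) (Fin m) F) (1 : Matrix (Fin m) (Fin m) F) (1 : Matrix (Fin m) (Fin m) F) (0 : Matrix (Fin m) (Fin m) F) := by
    rw [Matrix.fromBlocks_multiply]
    simp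
  have h2 := congrArg Matrix.det h1
  rw [Matrix.det_mul, Matrix.det_fromBlocks_zero₁₂, Matrix.det_fromBlocks_one₁₁] at h2
  simp only [Matrix.det_one, mul_one, zero_sub, Matrix.one_mul] at h2
  rw [h2, Matrix.det_neg, Matrix.det_one]
  simp

/-- The polar form of the hyperbolic form. -/
theorem polar_plus (m : ℕ) (u v : Fin m ⊕ Fin m → F) :
    QuadraticMap.polar (Cfsg.quadFormPlus m F) u v
      = Matrix.toBilin' (Matrix.fromBlocks (0 : Matrix (Fin m) (Fin m) F) (1 : Matrix (Fin m) (Fin m) F) (1 : Matrix (Fin m) (Fin m) F) (0 : Matrix (Fin m) (Fin m) F)) u v := by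
  rw [Matrix.toBilin'_apply', Matrix.fromBlocks_mulVec]
  simp only [QuadraticMap.polar, Cfsg.quadFormPlus, Pi.add_apply, dotProduct, Fintype.sum_sum_type,
    Sum.elim_inl, Sum.elim_inr, Matrix.zero_mulVec, Matrix.one_mulVec, zero_add, add_zero,
    Function.comp_apply]
  rw [← Finset.sum_sub_distrib, ← Finset.sum_sub_distrib, ← Finset.sum_add_distrib]
  exact Finset.sum_congr rfl (fun i _ => by ring)

/-- The polar form of the minus form. -/
theorem polar_minus (m : ℕ) (a c : F) (u v : (Fin m ⊕ Fin m) ⊕ Fin 2 → F) :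
    QuadraticMap.polar (Cfsg.quadFormMinus m F a c) u v
      = Matrix.toBilin' (Matrix.fromBlocks (Matrix.fromBlocks (0 : Matrix (Fin m) (Fin m) F) (1 : Matrix (Fin m) (Fin m) F) (1 : Matrix (Fin m) (Fin m) F) (0 : Matrix (Fin m) (Fin m) F)) (0 : Matrix (Fin m ⊕ Fin m) (Fin 2) F) (0 : Matrix (Fin 2) (Fin m ⊕ Fin m) F)
          !![2, a; a, 2 * c]) u v := by
  rw [Matrix.toBilin'_apply', Matrix.fromBlocks_mulVec, Matrix.fromBlocks_mulVec]
  simp only [QuadraticMap.polar, Cfsg.quadFormMinus, Pi.add_apply, dotProduct, Fintype.sum_sum_type,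
    Sum.elim_inl, Sum.elim_inr, Matrix.zero_mulVec, Matrix.one_mulVec, zero_add, add_zero,
    Function.comp_apply, Fin.sum_univ_two, Matrix.mulVec, Matrix.of_apply]
  simp
  have h : ∑ x, (u (Sum.inl (Sum.inl x)) + v (Sum.inl (Sum.inl x))) * (u (Sum.inl (Sum.inr x)) + v (Sum.inl (Sum.inr x)))
      - ∑ x, u (Sum.inl (Sum.inl x)) * u (Sum.inl (Sum.inr x)) - ∑ x, v (Sum.inl (Sum.inl x)) * v (Sum.inl (Sum.inr x))
      = ∑ x, u (Sum.inl (Sum.inl x)) * v (Sum.inl (Sum.inr x)) + ∑ x, u (Sum.inl (Sum.inr x)) * v (Sum.inl (Sum.inl x)) := by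
    rw [← Finset.sum_sub_distrib, ← Finset.sum_sub_distrib, ← Finset.sum_add_distrib]
    exact Finset.sum_congr rfl (fun i _ => by ring)
  linear_combination h

end Cfsg.Agent.Lib.Known3.Gram
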