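import Mathlib
import Cfsg.Agent.Lib.Known3.OrderSpec

/-! Variant of the spectrum combinatorics: the first alternative asks only for an element of order
`lcm (orderOf x) r`. -/

namespace Cfsg.Agent.Lib.Known3.OrderSpec

section

variable {L : Type*} [Group L] [Finite L]

variable {M : Type*} [Group M] {r p A : ℕ} {C : ℕ → Prop}

/-- The three-fold spectrum. -/
theorem range_three' (hr : r.Prime) (hp : p.Prime) (hrp : r ≠ p) (hA : ¬ p ∣ A)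
    (hC : ∀ b B, b ≤ B → C B → C b)
    (H1 : ∀ x : L, ¬ r ∣ orderOf x → (∃ y : L, orderOf y = Nat.lcm (orderOf x) r) ∨ ∃ B, C B ∧ orderOf x ∣ A * p ^ B)
    (H2 : ∀ t, t ∣ A → ∃ y : L, orderOf y = t)
    (H3 : ∀ b, C b → ∃ u : L, orderOf u = p ^ b)
    (H4 : ∃ z : L, orderOf z = r) (hM : ∀ z : M, z ^ r = 1) :
    Set.range (orderOf : L × L × L × M → ℕ) = Set.range (orderOf : L × L × L → ℕ) := by
  apply Set.Subset.antisymm
  · rintro _ ⟨⟨x₁, x₂, x₃, z⟩, rfl⟩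
    simp only [Prod.orderOf]
    have hz := orderOf_M_dvd hM z
    set o₁ := orderOf x₁
    set o₂ := orderOf x₂
    set o₃ := orderOf x₃
    rcases (Nat.dvd_prime hr).1 hz with hz1 | hzr
    · refine ⟨(x₁, x₂, x₃), ?_⟩
      simp only [Prod.orderOf, hz1, Nat.lcm_one_right]
      rfl
    rw [hzr]
    by_cases hrd : r ∣ Nat.lcm o₁ (Nat.lcm o₂ o₃)
    · refine ⟨(x₁, x₂, x₃), ?_⟩
      simp only [Prod.orderOf]
      change Nat.lcm o₁ (Nat.lcm o₂ o₃) = _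
      rw [← Nat.lcm_assoc o₂ o₃ r, ← Nat.lcm_assoc o₁ _ r]
      exact (Nat.lcm_eq_left hrd).symm
    have hr1 : ¬ r ∣ o₁ := fun h => hrd (h.trans (Nat.dvd_lcm_left _ _))
    have hr2 : ¬ r ∣ o₂ := fun h =>
      hrd (h.trans ((Nat.dvd_lcm_left _ _).trans (Nat.dvd_lcm_right _ _)))
    have hr3 : ¬ r ∣ o₃ := fun h =>
      hrd (h.trans ((Nat.dvd_lcm_right _ _).trans (Nat.dvd_lcm_right _ _)))
    rcases H1 x₁ hr1 with ⟨y, hy⟩ | ⟨B₁, hB₁, h₁⟩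
    · refine ⟨(y, x₂, x₃), ?_⟩
      simp only [Prod.orderOf]
      rw [hy]
      change Nat.lcm (Nat.lcm o₁ r) (Nat.lcm o₂ o₃) = _
      rw [Nat.lcm_assoc, Nat.lcm_comm r, ← Nat.lcm_assoc o₂ o₃ r]
    rcases H1 x₂ hr2 with ⟨y, hy⟩ | ⟨B₂, hB₂, h₂⟩
    · refine ⟨(x₁, y, x₃), ?_⟩
      simp only [Prod.orderOf]
      rw [hy]
      change Nat.lcm o₁ (Nat.lcm (Nat.lcm o₂ r) o₃) = _
      rw [Nat.lcm_assoc o₂ r o₃, Nat.lcm_comm r o₃]
    rcases H1 x₃ hr3 with ⟨y, hy⟩ | ⟨B₃, hB₃, h₃⟩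
    · refine ⟨(x₁, x₂, y), ?_⟩
      simp only [Prod.orderOf]
      rw [hy]
    -- all three in the special case
    set B := max B₁ (max B₂ B₃) with hB
    have hCB : C B := by
      rcases le_total B₂ B₃ with h23 | h23
      · rcases le_total B₁ B₃ with h13 | h13
        · rwa [hB, max_eq_right h23, max_eq_right h13]
        · rwa [hB, max_eq_right h23, max_eq_left h13]
      · rcases le_total B₁ B₂ with h12 | h12
        · rwa [hB, max_eq_left h23, max_eq_right h12]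
        · rwa [hB, max_eq_left h23, max_eq_left h12]
    have hdvdB : ∀ B', B' ≤ B → A * p ^ B' ∣ A * p ^ B := fun B' h =>
      Nat.mul_dvd_mul_left _ (pow_dvd_pow _ h)
    have ho : Nat.lcm o₁ (Nat.lcm o₂ o₃) ∣ A * p ^ B := by
      apply Nat.lcm_dvd (h₁.trans (hdvdB _ (le_max_left _ _)))
      apply Nat.lcm_dvd
      · exact h₂.trans (hdvdB _ ((le_max_left _ _).trans (le_max_right _ _)))
      · exact h₃.trans (hdvdB _ ((le_max_right _ _).trans (le_max_right _ _)))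
    have ho0 : Nat.lcm o₁ (Nat.lcm o₂ o₃) ≠ 0 := by
      apply Nat.lcm_ne_zero (orderOf_pos x₁).ne'
      exact Nat.lcm_ne_zero (orderOf_pos x₂).ne' (orderOf_pos x₃).ne'
    obtain ⟨b, t, hbB, htA, hcop, hdec⟩ := exists_decomp hp hA ho0 ho
    obtain ⟨y₁, hy₁⟩ := H2 t htA
    obtain ⟨y₂, hy₂⟩ := H3 b (hC b B hbB hCB)
    obtain ⟨y₃, hy₃⟩ := H4
    refine ⟨(y₁, y₂, y₃), ?_⟩
    simp only [Prod.orderOf, hy₁, hy₂, hy₃]
    rw [← Nat.lcm_assoc o₂ o₃ r, ← Nat.lcm_assoc o₁ _ r, hdec]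
    have h5 : Nat.Coprime (p ^ b) t := (Nat.Coprime.pow_right b hcop).symm
    rw [← h5.lcm_eq_mul, Nat.lcm_comm (p ^ b) t, Nat.lcm_assoc]
  · rintro _ ⟨⟨x₁, x₂, x₃⟩, rfl⟩
    refine ⟨(x₁, x₂, x₃, 1), ?_⟩
    simp [Prod.orderOf]

/-- The two-fold spectrum. -/
theorem range_two' (hr : r.Prime) (hp : p.Prime) (hrp : r ≠ p) (hA : ¬ p ∣ A)
    (hC : ∀ b B, b ≤ B → C B → C b)
    (H1 : ∀ x : L, ¬ r ∣ orderOf x → (∃ y : L, orderOf y = Nat.lcm (orderOf x) r) ∨ ∃ B, C B ∧ orderOf x ∣ A * p ^ B)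
    (H2 : ∀ t, t ∣ A → ∃ y : L, orderOf y = t)
    (H3 : ∀ b, C b → ∃ u : L, orderOf u = r * p ^ b)
    (hM : ∀ z : M, z ^ r = 1) :
    Set.range (orderOf : L × L × M → ℕ) = Set.range (orderOf : L × L → ℕ) := by
  apply Set.Subset.antisymm
  · rintro _ ⟨⟨x₁, x₂, z⟩, rfl⟩
    simp only [Prod.orderOf]
    have hz := orderOf_M_dvd hM z
    set o₁ := orderOf x₁
    set o₂ := orderOf x₂
    rcases (Nat.dvd_prime hr).1 hz with hz1 | hzr
    · refine ⟨(x₁, x₂), ?_⟩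
      simp only [Prod.orderOf, hz1, Nat.lcm_one_right]
      rfl
    rw [hzr]
    by_cases hrd : r ∣ Nat.lcm o₁ o₂
    · refine ⟨(x₁, x₂), ?_⟩
      simp only [Prod.orderOf]
      change Nat.lcm o₁ o₂ = _
      rw [← Nat.lcm_assoc o₁ o₂ r]
      exact (Nat.lcm_eq_left hrd).symm
    have hr1 : ¬ r ∣ o₁ := fun h => hrd (h.trans (Nat.dvd_lcm_left _ _))
    have hr2 : ¬ r ∣ o₂ := fun h => hrd (h.trans (Nat.dvd_lcm_right _ _))
    rcases H1 x₁ hr1 with ⟨y, hy⟩ | ⟨B₁, hB₁, h₁⟩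
    · refine ⟨(y, x₂), ?_⟩
      simp only [Prod.orderOf]
      rw [hy]
      change Nat.lcm (Nat.lcm o₁ r) o₂ = _
      rw [Nat.lcm_assoc, Nat.lcm_comm r o₂]
    rcases H1 x₂ hr2 with ⟨y, hy⟩ | ⟨B₂, hB₂, h₂⟩
    · refine ⟨(x₁, y), ?_⟩
      simp only [Prod.orderOf]
      rw [hy]
    set B := max B₁ B₂ with hB
    have hCB : C B := by
      rcases le_total B₁ B₂ with h12 | h12
      · rwa [hB, max_eq_right h12]
      · rwa [hB, max_eq_left h12]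
    have hdvdB : ∀ B', B' ≤ B → A * p ^ B' ∣ A * p ^ B := fun B' h =>
      Nat.mul_dvd_mul_left _ (pow_dvd_pow _ h)
    have ho : Nat.lcm o₁ o₂ ∣ A * p ^ B :=
      Nat.lcm_dvd (h₁.trans (hdvdB _ (le_max_left _ _))) (h₂.trans (hdvdB _ (le_max_right _ _)))
    have ho0 : Nat.lcm o₁ o₂ ≠ 0 := Nat.lcm_ne_zero (orderOf_pos x₁).ne' (orderOf_pos x₂).ne'
    obtain ⟨b, t, hbB, htA, hcop, hdec⟩ := exists_decomp hp hA ho0 ho
    obtain ⟨y₁, hy₁⟩ := H2 t htA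
    obtain ⟨y₂, hy₂⟩ := H3 b (hC b B hbB hCB)
    refine ⟨(y₁, y₂), ?_⟩
    simp only [Prod.orderOf, hy₁, hy₂]
    rw [← Nat.lcm_assoc o₁ o₂ r, hdec]
    have h5 : Nat.Coprime (p ^ b) t := (Nat.Coprime.pow_right b hcop).symm
    have h6 : Nat.Coprime r (p ^ b) :=
      Nat.Coprime.pow_right b ((Nat.coprime_primes hr hp).2 hrp)
    rw [← h5.lcm_eq_mul, ← h6.lcm_eq_mul, Nat.lcm_comm (p ^ b) t, Nat.lcm_comm r (p ^ b),
      Nat.lcm_assoc]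
  · rintro _ ⟨⟨x₁, x₂⟩, rfl⟩
    refine ⟨(x₁, x₂, 1), ?_⟩
    simp [Prod.orderOf]

end

end Cfsg.Agent.Lib.Known3.OrderSpec
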