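import Mathlib
import Cfsg.Agent.Lib.Classical.Basic

/-! Orders of elements of `PSL₂` over the field with thirteen elements. -/

set_option autoImplicit false
set_option linter.unusedVariables false

namespace Cfsg.Agent.Lib.Known3.PSL213

open Matrix

/-- Chebyshev pairs. -/
def UU {A : Type*} [CommRing A] (t : A) : ℕ → A × A
  | 0 => (0, 1)
  | n + 1 => ((UU t n).2, t * (UU t n).2 - (UU t n).1)

/-- Chebyshev numbers. -/
def U {A : Type*} [CommRing A] (t : A) (n : ℕ) : A := (UU t n).1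

section

variable {A : Type*} [CommRing A]

lemma U_zero (t : A) : U t 0 = 0 := rfl

lemma U_one (t : A) : U t 1 = 1 := rfl

lemma U_succ (t : A) (n : ℕ) : U t (n + 2) = t * U t (n + 1) - U t n := rfl

lemma U_map {B : Type*} [CommRing B] (f : A →+* B) (t : A) (n : ℕ) : f (U t n) = U (f t) n := by
  suffices h : ∀ n, f (UU t n).1 = (UU (f t) n).1 ∧ f (UU t n).2 = (UU (f t) n).2 from (h n).1
  intro n
  induction n with
  | zero => simp [UU]
  | succ n ih =>
    simp only [UU, map_sub, map_mul, ih.1, ih.2, and_self]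

end

variable {E : Type*} [Field E]

/-- The matrix of an element of `SL₂`. -/
abbrev mm (g : Matrix.SpecialLinearGroup (Fin 2) E) : Matrix (Fin 2) (Fin 2) E := (g : Matrix (Fin 2) (Fin 2) E)

lemma sq_eq (g : Matrix.SpecialLinearGroup (Fin 2) E) :
    mm g * mm g = (mm g).trace • mm g - 1 := by
  have hd := g.2
  rw [Matrix.det_fin_two] at hd
  ext i j
  fin_cases i <;> fin_cases j <;>
    simp [Matrix.mul_apply, Fin.sum_univ_two, Matrix.trace_fin_two] <;>
    first
    | linear_combination -hd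
    | ring

lemma pow_eq (g : Matrix.SpecialLinearGroup (Fin 2) E) (n : ℕ) :
    mm g ^ (n + 1) = U (mm g).trace (n + 1) • mm g - U (mm g).trace n • 1 := by
  induction n with
  | zero => simp [U_one, U_zero]
  | succ n ih =>
    set t := (mm g).trace with ht
    calc mm g ^ (n + 1 + 1) = (U t (n + 1) • mm g - U t n • 1) * mm g := by rw [pow_succ, ih]
      _ = U t (n + 1) • (mm g * mm g) - U t n • mm g := by
        rw [sub_mul, smul_mul_assoc, smul_mul_assoc, one_mul]
      _ = U t (n + 1) • (t • mm g - 1) - U t n • mm g := by rw [sq_eq]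
      _ = U t (n + 1 + 1) • mm g - U t (n + 1) • 1 := by
        rw [U_succ, smul_sub, smul_smul, sub_smul, mul_comm (U t (n + 1)) t]
        abel

lemma mem_center_of_smul {x : Matrix.SpecialLinearGroup (Fin 2) E} {c : E} (h : mm x = c • 1) :
    x ∈ Subgroup.center (Matrix.SpecialLinearGroup (Fin 2) E) := by
  rw [Matrix.SpecialLinearGroup.mem_center_iff]
  refine ⟨c, ?_, ?_⟩
  · have h1 := x.2
    change (mm x).det = 1 at h1
    rw [h, Matrix.det_smul, Matrix.det_one, mul_one, Fintype.card_fin] at h1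
    rw [Fintype.card_fin]
    exact h1
  · rw [Matrix.scalar_apply, ← Matrix.smul_one_eq_diagonal, ← h]

lemma smul_of_mem_center {x : Matrix.SpecialLinearGroup (Fin 2) E}
    (h : x ∈ Subgroup.center (Matrix.SpecialLinearGroup (Fin 2) E)) : ∃ c : E, mm x = c • 1 := by
  rw [Matrix.SpecialLinearGroup.mem_center_iff] at h
  obtain ⟨c, -, hc⟩ := h
  refine ⟨c, hc.symm.trans ?_⟩
  rw [Matrix.scalar_apply, Matrix.smul_one_eq_diagonal]

/-- The group. -/
abbrev PSL₂ (E : Type*) [Field E] := Matrix.ProjectiveSpecialLinearGroup (Fin 2) E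

lemma mk_pow_eq_one_iff (g : Matrix.SpecialLinearGroup (Fin 2) E) (n : ℕ) :
    (g : PSL₂ E) ^ n = 1 ↔ ∃ c : E, mm g ^ n = c • 1 := by
  rw [← QuotientGroup.mk_pow, QuotientGroup.eq_one_iff]
  constructor
  · intro h
    obtain ⟨c, hc⟩ := smul_of_mem_center h
    refine ⟨c, ?_⟩
    rw [← hc]
    simp
  · rintro ⟨c, hc⟩
    apply mem_center_of_smul (c := c)
    rw [← hc]
    simp

/-- From a relation in `PSL₂` to the vanishing of a Chebyshev number. -/
lemma U_eq_zero_of_pow (g : Matrix.SpecialLinearGroup (Fin 2) E) {n : ℕ} (hn : 1 ≤ n) (h : (g : PSL₂ E) ^ n = 1)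
    (h1 : (g : PSL₂ E) ≠ 1) : U (mm g).trace n = 0 := by
  obtain ⟨k, rfl⟩ : ∃ k, n = k + 1 := ⟨n - 1, by omega⟩
  rw [mk_pow_eq_one_iff] at h
  obtain ⟨c, hc⟩ := h
  rw [pow_eq] at hc
  by_contra h0
  apply h1
  have h2 : mm g = ((U (mm g).trace (k + 1))⁻¹ * (c + U (mm g).trace k)) • 1 := by
    rw [mul_smul, add_smul, ← hc, sub_add_cancel, smul_smul, inv_mul_cancel₀ h0, one_smul]
  have h3 := (mk_pow_eq_one_iff g 1).2 ⟨_, by rw [pow_one]; exact h2⟩
  rwa [pow_one] at h3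

lemma pow_of_U_eq_zero (g : Matrix.SpecialLinearGroup (Fin 2) E) {n : ℕ} (hn : 1 ≤ n) (h : U (mm g).trace n = 0) :
    (g : PSL₂ E) ^ n = 1 := by
  obtain ⟨k, rfl⟩ : ∃ k, n = k + 1 := ⟨n - 1, by omega⟩
  rw [mk_pow_eq_one_iff]
  refine ⟨-U (mm g).trace k, ?_⟩
  rw [pow_eq, h, zero_smul, zero_sub, neg_smul]

variable [Fintype E]

theorem no_order (hE : Fintype.card E = 13) (y : PSL₂ E) {n d₁ d₂ : ℕ} (hn : 1 ≤ n) (hd₁ : 1 ≤ d₁) (hd₂ : 1 ≤ d₂)
    (hc : ∀ t : ZMod 13, U t n = 0 → U t d₁ = 0 ∨ U t d₂ = 0) (h₁ : ¬ n ∣ d₁) (h₂ : ¬ n ∣ d₂) : orderOf y ≠ n := by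
  intro ho
  obtain ⟨g, rfl⟩ := QuotientGroup.mk_surjective y
  let φ : ZMod 13 ≃+* E := ZMod.ringEquivOfPrime E (by norm_num) hE
  have hy1 : (g : PSL₂ E) ≠ 1 := by
    intro h
    rw [h, orderOf_one] at ho
    apply h₁
    rw [← ho]
    exact one_dvd _
  have h0 := U_eq_zero_of_pow g hn (by rw [← ho]; exact pow_orderOf_eq_one _) hy1
  obtain ⟨t₀, ht₀⟩ := φ.surjective (mm g).trace
  have hU : ∀ m, U (mm g).trace m = φ (U t₀ m) := by
    intro m
    rw [← ht₀]
    exact (U_map φ.toRingHom t₀ m).symm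
  rw [hU] at h0
  have h3 : U t₀ n = 0 := by simpa using h0
  rcases hc t₀ h3 with h4 | h4
  · have h5 : U (mm g).trace d₁ = 0 := by rw [hU, h4, map_zero]
    have h6 := pow_of_U_eq_zero g hd₁ h5
    apply h₁
    rw [← ho]
    exact orderOf_dvd_of_pow_eq_one h6
  · have h5 : U (mm g).trace d₂ = 0 := by rw [hU, h4, map_zero]
    have h6 := pow_of_U_eq_zero g hd₂ h5
    apply h₂
    rw [← ho]
    exact orderOf_dvd_of_pow_eq_one h6

theorem chk14 : ∀ t : ZMod 13, U t 14 = 0 → U t 2 = 0 ∨ U t 7 = 0 := by decide +kernel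
theorem chk21 : ∀ t : ZMod 13, U t 21 = 0 → U t 3 = 0 ∨ U t 7 = 0 := by decide +kernel
theorem chk26 : ∀ t : ZMod 13, U t 26 = 0 → U t 2 = 0 ∨ U t 13 = 0 := by decide +kernel
theorem chk39 : ∀ t : ZMod 13, U t 39 = 0 → U t 3 = 0 ∨ U t 13 = 0 := by decide +kernel
theorem chk91 : ∀ t : ZMod 13, U t 91 = 0 → U t 7 = 0 ∨ U t 13 = 0 := by decide +kernel

theorem no_14 (hE : Fintype.card E = 13) (y : PSL₂ E) : orderOf y ≠ 14 := no_order hE y (by norm_num) (by norm_num) (by norm_num) chk14 (by norm_num) (by norm_num)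
theorem no_21 (hE : Fintype.card E = 13) (y : PSL₂ E) : orderOf y ≠ 21 := no_order hE y (by norm_num) (by norm_num) (by norm_num) chk21 (by norm_num) (by norm_num)
theorem no_26 (hE : Fintype.card E = 13) (y : PSL₂ E) : orderOf y ≠ 26 := no_order hE y (by norm_num) (by norm_num) (by norm_num) chk26 (by norm_num) (by norm_num)
theorem no_39 (hE : Fintype.card E = 13) (y : PSL₂ E) : orderOf y ≠ 39 := no_order hE y (by norm_num) (by norm_num) (by norm_num) chk39 (by norm_num) (by norm_num)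
theorem no_91 (hE : Fintype.card E = 13) (y : PSL₂ E) : orderOf y ≠ 91 := no_order hE y (by norm_num) (by norm_num) (by norm_num) chk91 (by norm_num) (by norm_num)

theorem exists_six (hE : Fintype.card E = 13) : ∃ y : PSL₂ E, orderOf y = 6 := by
  let φ : ZMod 13 ≃+* E := ZMod.ringEquivOfPrime E (by norm_num) hE
  let g : Matrix.SpecialLinearGroup (Fin 2) E := ⟨!![φ 4, -1; 1, 0], by
    rw [Matrix.det_fin_two_of]
    ring⟩
  have ht : (mm g).trace = φ 4 := by
    show (!![φ 4, -1; 1, 0] : Matrix (Fin 2) (Fin 2) E).trace = φ 4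
    simp [Matrix.trace_fin_two]
  have hU : ∀ m, U (mm g).trace m = φ (U 4 m) := by
    intro m
    rw [ht]
    exact (U_map φ.toRingHom 4 m).symm
  have hy1 : (g : PSL₂ E) ≠ 1 := by
    intro h
    have h3 : (g : PSL₂ E) ^ 1 = 1 := by rw [pow_one, h]
    rw [mk_pow_eq_one_iff, pow_one] at h3
    obtain ⟨c, hc⟩ := h3
    have h4 : (!![φ 4, -1; 1, 0] : Matrix (Fin 2) (Fin 2) E) 1 0 = (c • (1 : Matrix (Fin 2) (Fin 2) E)) 1 0 :=
      congrFun (congrFun hc 1) 0
    simp at h4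
  have h6 : (g : PSL₂ E) ^ 6 = 1 := by
    apply pow_of_U_eq_zero g (by norm_num)
    rw [hU, show U (4 : ZMod 13) 6 = 0 by decide +kernel, map_zero]
  refine ⟨_, orderOf_eq_of_pow_and_pow_div_prime (by norm_num) h6 ?_⟩
  intro p hp hd
  have h7 : p ∣ 2 * 3 := hd
  rcases (Nat.Prime.dvd_mul hp).1 h7 with h | h
  · rw [(Nat.prime_dvd_prime_iff_eq hp Nat.prime_two).1 h]
    intro h8
    have h9 := U_eq_zero_of_pow g (n := 3) (by norm_num) h8 hy1
    rw [hU] at h9
    have h10 : U (4 : ZMod 13) 3 = 0 := by simpa using h9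
    revert h10
    decide +kernel
  · rw [(Nat.prime_dvd_prime_iff_eq hp Nat.prime_three).1 h]
    intro h8
    have h9 := U_eq_zero_of_pow g (n := 2) (by norm_num) h8 hy1
    rw [hU] at h9
    have h10 : U (4 : ZMod 13) 2 = 0 := by simpa using h9
    revert h10
    decide +kernel

theorem card_eq (hE : Fintype.card E = 13) : Nat.card (PSL₂ E) = 1092 := by
  have h := Cfsg.Agent.Lib.Classical.card_PSL hE 2 (by norm_num)
  rw [Fin.prod_univ_two, show Nat.gcd 2 (13 - 1) = 2 from rfl] at h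
  simp only [Fin.val_zero, Fin.val_one, pow_zero, pow_one] at h
  norm_num at h
  show Nat.card (Matrix.ProjectiveSpecialLinearGroup (Fin 2) E) = 1092
  omega

end Cfsg.Agent.Lib.Known3.PSL213
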