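import Mathlib
import Cfsg.Agent.Lib.Known3.OmegaTrans
import Cfsg.Prelude.Def_LieTypeDatum

/-! The action of the conformal orthogonal group on `PΩ`. -/

set_option autoImplicit false
set_option linter.unusedSectionVars false

namespace Cfsg.Agent.Lib.Known3.SimAut

open Cfsg.Agent.Lib.Classical.Witt Cfsg.Agent.Lib.Classical.Abs Cfsg.Agent.Lib.Classical
open Cfsg.Agent.Lib.Classical.Orth Cfsg.Agent.Lib.Known3.Spinor
open Matrix
open scoped commutatorElement

local notation "P" => QuadraticMap.polarBilin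

section generic

variable {G : Type*} [Group G]

lemma mem_comm_map (e : G ≃* G) {x : G} (hx : x ∈ commutator G) : e x ∈ commutator G := by
  have h : (commutator G).map e.toMonoidHom ≤ commutator G := by
    rw [commutator_def, Subgroup.map_commutator]
    exact Subgroup.commutator_mono le_top le_top
  exact h ⟨x, hx, rfl⟩

/-- Restriction to the commutator subgroup. -/
def commAut (e : MulAut G) : MulAut (commutator G) where
  toFun x := ⟨e x.1, mem_comm_map e x.2⟩
  invFun x := ⟨e.symm x.1, mem_comm_map e.symm x.2⟩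
  left_inv x := by
    apply Subtype.ext
    simp
  right_inv x := by
    apply Subtype.ext
    simp
  map_mul' x y := by
    apply Subtype.ext
    simp

@[simp] lemma commAut_coe (e : MulAut G) (x : commutator G) : ((commAut e x : commutator G) : G) = e x.1 := rfl

lemma center_map (H : Type*) [Group H] (a : MulAut H) : (Subgroup.center H).map a.toMonoidHom = Subgroup.center H :=
  Subgroup.characteristic_iff_map_eq.1 (inferInstance : (Subgroup.center H).Characteristic) a

/-- The automorphism induced on the central quotient. -/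
def quotAut {H : Type*} [Group H] (a : MulAut H) : MulAut (H ⧸ Subgroup.center H) :=
  QuotientGroup.congr (Subgroup.center H) (Subgroup.center H) a (center_map H a)

@[simp] lemma quotAut_mk {H : Type*} [Group H] (a : MulAut H) (x : H) :
    quotAut a (QuotientGroup.mk x) = QuotientGroup.mk (a x) := rfl

/-- The automorphism of the projective commutator subgroup attached to an automorphism. -/
noncomputable def autP : MulAut G →* MulAut (↥(commutator G) ⧸ Subgroup.center ↥(commutator G)) where
  toFun e := quotAut (commAut e)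
  map_one' := by
    ext x
    induction x using QuotientGroup.induction_on with
    | H z => rfl
  map_mul' e f := by
    ext x
    induction x using QuotientGroup.induction_on with
    | H z => rfl

@[simp] lemma autP_mk (e : MulAut G) (x : commutator G) :
    autP e (QuotientGroup.mk x) = QuotientGroup.mk (commAut e x) := rfl

/-- An automorphism trivial on a perfect central quotient is trivial. -/
lemma aut_trivial_of_perfect {H : Type*} [Group H] (hp : commutator H = ⊤) (a : MulAut H)
    (h : ∀ x : H, (QuotientGroup.mk (a x) : H ⧸ Subgroup.center H) = QuotientGroup.mk x) (x : H) : a x = x := by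
  have hc : ∀ x : H, (a x)⁻¹ * x ∈ Subgroup.center H := fun x => QuotientGroup.eq.1 (h x)
  have hcm : ∀ x y : H, (a x)⁻¹ * x * y = y * ((a x)⁻¹ * x) := fun x y =>
    (Subgroup.mem_center_iff.1 (hc x) y).symm
  let z : H →* Subgroup.center H :=
    { toFun := fun x => ⟨(a x)⁻¹ * x, hc x⟩
      map_one' := by
        apply Subtype.ext
        simp
      map_mul' := by
        intro x y
        apply Subtype.ext
        simp only [map_mul, Subgroup.coe_mul]
        have h4 : (a y)⁻¹ * ((a x)⁻¹ * x) = ((a x)⁻¹ * x) * (a y)⁻¹ := Subgroup.mem_center_iff.1 (hc x) _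
        calc (a x * a y)⁻¹ * (x * y) = (a y)⁻¹ * ((a x)⁻¹ * x) * y := by group
          _ = ((a x)⁻¹ * x) * (a y)⁻¹ * y := by rw [h4]
          _ = _ := by group }
  have hker : commutator H ≤ z.ker := by
    rw [commutator_def, Subgroup.commutator_le]
    intro u _ v _
    rw [MonoidHom.mem_ker, map_commutatorElement, commutatorElement_eq_one_iff_commute]
    apply Subtype.ext
    exact (Subgroup.mem_center_iff.1 (z u).2 (z v).1).symm
  have hz : z x = 1 := hker (by rw [hp]; trivial)
  have h1 : (a x)⁻¹ * x = 1 := congrArg Subtype.val hz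
  exact inv_mul_eq_one.1 h1

lemma fix_of_autP (hp : commutator (commutator G) = ⊤) (e : MulAut G) (h : autP e = 1) {x : G} (hx : x ∈ commutator G) :
    e x = x := by
  have h1 := aut_trivial_of_perfect hp (commAut e) (by
    intro y
    have := congrArg (fun a : MulAut (↥(commutator G) ⧸ Subgroup.center ↥(commutator G)) => a (QuotientGroup.mk y)) h
    exact this) ⟨x, hx⟩
  exact congrArg Subtype.val h1

end generic

section sim

variable {ι : Type} [Fintype ι] [DecidableEq ι] {F : Type*} [Field F]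

local notation "GLι" => Matrix.GeneralLinearGroup ι F

abbrev Sim (Q : (ι → F) → F) : Subgroup (GL ι F) := Cfsg.Geo.quadSimilarityGroup (F := F) Q

lemma conj_mem {Q : (ι → F) → F} {g : GL ι F} (hg : g ∈ Sim Q) {h : GL ι F} (hh : h ∈ Cfsg.isometryGroup F Q) :
    g * h * g⁻¹ ∈ Cfsg.isometryGroup F Q := by
  rw [mem_isometryGroup_iff] at hh ⊢
  obtain ⟨c, hc⟩ := hg
  intro v
  have e1 : ((g * h * g⁻¹ : GL ι F) : Matrix ι ι F) *ᵥ v = (g : Matrix ι ι F) *ᵥ ((h : Matrix ι ι F) *ᵥ (((g⁻¹ : GL ι F) : Matrix ι ι F) *ᵥ v)) := by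
    simp [Matrix.mulVec_mulVec, mul_assoc]
  rw [e1, hc, hh, ← hc, Matrix.mulVec_mulVec]
  simp

/-- Conjugation on the isometry group by similarities. -/
noncomputable def conjO (Q : (ι → F) → F) : Sim Q →* MulAut (Cfsg.isometryGroup F Q) where
  toFun g :=
    { toFun := fun h => ⟨g.1 * h.1 * g.1⁻¹, conj_mem g.2 h.2⟩
      invFun := fun h => ⟨g.1⁻¹ * h.1 * g.1, by
        have := conj_mem ((Sim Q).inv_mem g.2) h.2
        simpa using this⟩
      left_inv := fun h => by
        apply Subtype.ext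
        simp [mul_assoc]
      right_inv := fun h => by
        apply Subtype.ext
        simp [mul_assoc]
      map_mul' := fun x y => by
        apply Subtype.ext
        simp [mul_assoc] }
  map_one' := by
    ext h
    simp
  map_mul' g g' := by
    ext h
    simp [mul_assoc]

@[simp] lemma conjO_coe (Q : (ι → F) → F) (g : Sim Q) (h : Cfsg.isometryGroup F Q) :
    ((conjO Q g h : Cfsg.isometryGroup F Q) : GL ι F) = g.1 * h.1 * g.1⁻¹ := rfl

/-- The action of similarities on `PΩ`. -/
noncomputable def Ψ (Q : (ι → F) → F) : Sim Q →* MulAut (Cfsg.POmega F Q) := autP.comp (conjO Q)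

lemma Ψ_induced (Q : (ι → F) → F) (g : Sim Q) : Cfsg.IsInducedBySemilinearPOmega Q g.1 (RingEquiv.refl F) (Ψ Q g) := by
  intro s s' hs
  have h1 : s' = commAut (conjO Q g) s := by
    apply Subtype.ext
    apply Subtype.ext
    apply Units.ext
    rw [hs]
    have : (((s : Cfsg.isometryGroup F Q) : GL ι F) : Matrix ι ι F).map (RingEquiv.refl F) = ((s : Cfsg.isometryGroup F Q) : GL ι F) := by
      ext i j
      simp
    rw [this]
    rfl
  rw [h1]
  rfl

lemma eq_Ψ_of_induced (Q : (ι → F) → F) (g : Sim Q) (β : Cfsg.POmega F Q ≃* Cfsg.POmega F Q)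
    (h : Cfsg.IsInducedBySemilinearPOmega Q g.1 (RingEquiv.refl F) β) : β = Ψ Q g := by
  ext x
  induction x using QuotientGroup.induction_on with
  | H z =>
    have e1 := h z (commAut (conjO Q g) z) (by
      have : (((z : Cfsg.isometryGroup F Q) : GL ι F) : Matrix ι ι F).map (RingEquiv.refl F) = ((z : Cfsg.isometryGroup F Q) : GL ι F) := by
        ext i j
        simp
      rw [this]
      rfl)
    rw [e1]
    rfl

/-- The image of a subgroup of `GL` under the action. -/
noncomputable def img (Q : (ι → F) → F) (S : Subgroup (GL ι F)) : Subgroup (MulAut (Cfsg.POmega F Q)) :=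
  (S.subgroupOf (Sim Q)).map (Ψ Q)

lemma mem_img {Q : (ι → F) → F} {S : Subgroup (GL ι F)} {β : MulAut (Cfsg.POmega F Q)} :
    β ∈ img Q S ↔ ∃ g : Sim Q, g.1 ∈ S ∧ Ψ Q g = β := by
  simp only [img, Subgroup.mem_map, Subgroup.mem_subgroupOf]

/-- The subgroups defined by closures are the images. -/
theorem autSubgroupOf_eq (Q : (ι → F) → F) (S : Subgroup (GL ι F)) (hS : S ≤ Sim Q) :
    Cfsg.autSubgroupOf (fun β => ∃ g : GL ι F, g ∈ S ∧ Cfsg.IsInducedBySemilinearPOmega Q g (RingEquiv.refl F) β) = img Q S := by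
  apply le_antisymm
  · rw [Cfsg.autSubgroupOf, Subgroup.closure_le]
    rintro β ⟨g, hg, hβ⟩
    exact mem_img.2 ⟨⟨g, hS hg⟩, hg, (eq_Ψ_of_induced Q ⟨g, hS hg⟩ β hβ).symm⟩
  · intro β hβ
    obtain ⟨g, hg, rfl⟩ := mem_img.1 hβ
    exact Subgroup.subset_closure ⟨g.1, hg, Ψ_induced Q g⟩

lemma isometry_le_sim (Q : (ι → F) → F) : Cfsg.isometryGroup F Q ≤ Sim Q := by
  intro g hg
  rw [mem_isometryGroup_iff] at hg
  exact ⟨1, fun v => by rw [hg]; simp⟩

lemma special_le_sim (Q : (ι → F) → F) : Cfsg.specialIsometryGL F Q ≤ Sim Q :=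
  le_trans inf_le_left (isometry_le_sim Q)

theorem pgoAut_eq (Q : (ι → F) → F) : Cfsg.pgoAut F Q = img Q (Sim Q) :=
  autSubgroupOf_eq Q (Sim Q) le_rfl

theorem poAut_eq (Q : (ι → F) → F) : Cfsg.poAut F Q = img Q (Cfsg.isometryGroup F Q) :=
  autSubgroupOf_eq Q _ (isometry_le_sim Q)

theorem psoAut_eq (Q : (ι → F) → F) : Cfsg.psoAut F Q = img Q (Cfsg.specialIsometryGL F Q) :=
  autSubgroupOf_eq Q _ (special_le_sim Q)

/-- `Ω` as a subgroup of `GL`. -/
def OmegaGL (Q : (ι → F) → F) : Subgroup (GL ι F) := (Cfsg.Omega F Q).map (Cfsg.isometryGroup F Q).subtype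

lemma OmegaGL_le (Q : (ι → F) → F) : OmegaGL Q ≤ Cfsg.isometryGroup F Q := by
  rintro _ ⟨x, _, rfl⟩
  exact x.2

theorem Inn_eq (Q : (ι → F) → F) : Cfsg.Inn (Cfsg.POmega F Q) = img Q (OmegaGL Q) := by
  ext β
  rw [mem_img]
  constructor
  · rintro ⟨x, rfl⟩
    induction x using QuotientGroup.induction_on with
    | H z =>
      refine ⟨⟨z.1.1, isometry_le_sim Q z.1.2⟩, ⟨z.1, z.2, rfl⟩, ?_⟩
      ext y
      induction y using QuotientGroup.induction_on with
      | H w => 
        change QuotientGroup.mk _ = _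
        rw [MulAut.conj_apply, ← QuotientGroup.mk_inv, ← QuotientGroup.mk_mul, ← QuotientGroup.mk_mul]
        congr 1
  · rintro ⟨g, ⟨x, hx, hxg⟩, rfl⟩
    refine ⟨QuotientGroup.mk ⟨x, hx⟩, ?_⟩
    ext y
    induction y using QuotientGroup.induction_on with
    | H w => 
      rw [MulAut.conj_apply, ← QuotientGroup.mk_inv, ← QuotientGroup.mk_mul, ← QuotientGroup.mk_mul]
      have : g = ⟨x.1, isometry_le_sim Q x.2⟩ := Subtype.ext hxg.symm
      subst this
      rfl

end sim

section commutant

variable {F V : Type*} [Field F] [AddCommGroup V] [Module F V] {Q : QuadraticForm F V}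
variable [FiniteDimensional F V]

local notation "orth" => LinearMap.BilinForm.orthogonal (P Q)

/-- The condition of commuting with products of two reflections of the same norm. -/
def CommPairs (Q : QuadraticForm F V) (A : V →ₗ[F] V) : Prop :=
  ∀ u w (hu : Q u ≠ 0) (hw : Q w ≠ 0), Q u = Q w → ∀ x, A ((refl Q u hu * refl Q w hw).1 x) = (refl Q u hu * refl Q w hw).1 (A x)

lemma mem_plane_of_comm' (hQ : (P Q).Nondegenerate) {u w : V} (hu : Q u ≠ 0) (hw : Q w ≠ 0)
    (huw : P Q u w = 0) (hn : w ∉ Submodule.span F {u}) (A : V →ₗ[F] V)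
    (hg : ∀ x, A ((refl Q u hu * refl Q w hw).1 x) = (refl Q u hu * refl Q w hw).1 (A x)) :
    ∃ a b : F, A u = a • u + b • w := by
  have hn' : u ∉ Submodule.span F {w} := by
    intro h
    obtain ⟨c, hc⟩ := Submodule.mem_span_singleton.mp h
    have hc0 : c ≠ 0 := by
      rintro rfl
      rw [zero_smul] at hc
      rw [← hc] at hu
      simp at hu
    apply hn
    refine Submodule.mem_span_singleton.mpr ⟨c⁻¹, ?_⟩
    rw [← hc, smul_smul, inv_mul_cancel₀ hc0, one_smul]
  obtain ⟨b₀, hb₁, hb₂⟩ := exists_pair hQ hn'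
  set x₀ := Q u • b₀ with hx₀
  have h1 : P Q w x₀ = 0 := by rw [hx₀, map_smul, hb₁, smul_zero]
  have h3 : P Q u x₀ = Q u := by rw [hx₀, map_smul, hb₂, smul_eq_mul, mul_one]
  have hρ : (refl Q u hu * refl Q w hw).1 x₀ = x₀ - u := by
    rw [refl_mul_refl_apply hu hw huw, h1, h3, inv_mul_cancel₀ hu]
    simp
  have hu' : u = x₀ - (refl Q u hu * refl Q w hw).1 x₀ := by
    rw [hρ]
    abel
  refine ⟨(Q u)⁻¹ * P Q u (A x₀), (Q w)⁻¹ * P Q w (A x₀), ?_⟩
  conv_lhs => rw [hu']
  rw [map_sub, hg, refl_mul_refl_apply hu hw huw]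
  abel

lemma eigen_of_comm' (hQ : (P Q).Nondegenerate) {u w₁ w₂ : V} (hu : Q u ≠ 0) (hw₁ : Q w₁ ≠ 0) (hw₂ : Q w₂ ≠ 0)
    (h1 : P Q u w₁ = 0) (h2 : P Q u w₂ = 0) (hn₁ : w₁ ∉ Submodule.span F {u})
    (hn₂ : w₂ ∉ Submodule.span F {u}) (hn : w₂ ∉ Submodule.span F {u, w₁}) (A : V →ₗ[F] V)
    (hg₁ : ∀ x, A ((refl Q u hu * refl Q w₁ hw₁).1 x) = (refl Q u hu * refl Q w₁ hw₁).1 (A x))
    (hg₂ : ∀ x, A ((refl Q u hu * refl Q w₂ hw₂).1 x) = (refl Q u hu * refl Q w₂ hw₂).1 (A x)) :
    ∃ c : F, A u = c • u := by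
  obtain ⟨a, b, hab⟩ := mem_plane_of_comm' hQ hu hw₁ h1 hn₁ A hg₁
  obtain ⟨c, d, hcd⟩ := mem_plane_of_comm' hQ hu hw₂ h2 hn₂ A hg₂
  by_cases hd : d = 0
  · refine ⟨c, ?_⟩
    rw [hcd, hd]
    simp
  · exfalso
    apply hn
    rw [Submodule.mem_span_pair]
    refine ⟨d⁻¹ * (a - c), d⁻¹ * b, ?_⟩
    have h5 : d • w₂ = (a - c) • u + b • w₁ := by
      have : c • u + d • w₂ = a • u + b • w₁ := by rw [← hcd, ← hab]
      rw [sub_smul]
      calc d • w₂ = (c • u + d • w₂) - c • u := by abel
        _ = (a • u + b • w₁) - c • u := by rw [this]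
        _ = _ := by abel
    rw [mul_smul, mul_smul, ← smul_add, ← h5, smul_smul, inv_mul_cancel₀ hd, one_smul]

/-- Eigenvalues agree when a sum is an eigenvector. -/
lemma same_eig' {A : V →ₗ[F] V} {x y : V} {α β c t : F} (hx : A x = α • x) (hy : A y = β • y)
    (hx0 : x ≠ 0) (hy0 : y ≠ 0) (ht : t ≠ 0) (hz : A (x + t • y) = c • (x + t • y)) : α = β := by
  by_cases hdep : x ∈ Submodule.span F {y}
  · obtain ⟨l, rfl⟩ := Submodule.mem_span_singleton.mp hdep
    have hl : l ≠ 0 := by
      rintro rfl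
      simp at hx0
    rw [map_smul, hy, smul_smul, smul_smul] at hx
    have h1 : (l * β - α * l) • y = 0 := by
      rw [sub_smul, hx, sub_self]
    have h3 := (smul_eq_zero.mp h1).resolve_right hy0
    have h4 : l * (β - α) = 0 := by linear_combination h3
    have h5 := (mul_eq_zero.mp h4).resolve_left hl
    exact (sub_eq_zero.mp h5).symm
  · have h1 : α • x + (t * β) • y = c • x + (c * t) • y := by
      have := hz
      rw [map_add, map_smul, hx, hy, smul_smul, smul_add, smul_smul] at this
      exact this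
    have h3 : (α - c) • x = (c * t - t * β) • y := by
      rw [sub_smul, sub_smul]
      calc α • x - c • x = (α • x + (t * β) • y) - (c • x + (t * β) • y) := by abel
        _ = (c • x + (c * t) • y) - (c • x + (t * β) • y) := by rw [h1]
        _ = _ := by abel
    have hαc : α = c := by
      by_contra hne
      apply hdep
      have h6 : α - c ≠ 0 := sub_ne_zero.mpr hne
      refine Submodule.mem_span_singleton.mpr ⟨(α - c)⁻¹ * (c * t - t * β), ?_⟩
      rw [mul_smul, ← h3, smul_smul, inv_mul_cancel₀ h6, one_smul]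
    rw [hαc, sub_self, zero_smul] at h3
    have h4 := (smul_eq_zero.mp h3.symm).resolve_right hy0
    have h5 : t * (c - β) = 0 := by linear_combination h4
    have h6 := (mul_eq_zero.mp h5).resolve_left ht
    rw [hαc]
    exact sub_eq_zero.mp h6

variable [Fintype F] [Finite V]

/-- The commutant of the products of pairs of reflections consists of scalars. -/
theorem scalar_of_commPairs (h2 : (2 : F) ≠ 0) (hQ : (P Q).Nondegenerate) (hn : 4 ≤ Module.finrank F V) (A : V →ₗ[F] V)
    (hc : CommPairs Q A) : ∃ α : F, ∀ v, A v = α • v := by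
  classical
  have hn2 : 2 ≤ Module.finrank F V := by omega
  -- eigenvectors
  have heig : ∀ u, Q u ≠ 0 → ∃ c : F, A u = c • u := by
    intro u hu
    have hu0 : u ≠ 0 := by
      rintro rfl
      simp at hu
    have hT1 := inf_orth_single h2 hu
    have hfr1 : Module.finrank F (Submodule.span F {u}) = 1 := finrank_span_singleton hu0
    obtain ⟨w₁, hw₁, hQw₁⟩ := exists_orth_Q_eq h2 hQ (Submodule.span F {u}) hT1 (by omega) (Q u)
    have hw₁0 : Q w₁ ≠ 0 := by rw [hQw₁]; exact hu
    have huw₁ : P Q u w₁ = 0 := mem_orth.mp hw₁ u (Submodule.mem_span_singleton_self u)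
    have hT2 := inf_orth_pair h2 hu hw₁0 huw₁
    obtain ⟨w₂, hw₂, hQw₂⟩ := exists_orth_Q_eq h2 hQ (Submodule.span F {u, w₁}) hT2
      (by have := finrank_span_pair_le (F := F) u w₁; omega) (Q u)
    have hw₂0 : Q w₂ ≠ 0 := by rw [hQw₂]; exact hu
    have huw₂ : P Q u w₂ = 0 := mem_orth.mp hw₂ u (Submodule.subset_span (by simp))
    have hn₁ : w₁ ∉ Submodule.span F {u} := by
      intro h
      have h3 : w₁ ∈ Submodule.span F {u} ⊓ orth (Submodule.span F {u}) := ⟨h, hw₁⟩
      rw [hT1] at h3
      have h4 : w₁ = 0 := by simpa using h3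
      rw [h4] at hw₁0
      simp at hw₁0
    have hn' : w₂ ∉ Submodule.span F {u, w₁} := by
      intro h
      have h3 : w₂ ∈ Submodule.span F {u, w₁} ⊓ orth (Submodule.span F {u, w₁}) := ⟨h, hw₂⟩
      rw [hT2] at h3
      have h4 : w₂ = 0 := by simpa using h3
      rw [h4] at hw₂0
      simp at hw₂0
    have hn₂ : w₂ ∉ Submodule.span F {u} := fun h =>
      hn' (Submodule.span_mono (by simp) h)
    exact eigen_of_comm' hQ hu hw₁0 hw₂0 huw₁ huw₂ hn₁ hn₂ hn' A
      (hc _ _ hu hw₁0 hQw₁.symm) (hc _ _ hu hw₂0 hQw₂.symm)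
  -- a base vector
  obtain ⟨x₀, hx₀⟩ := exists_Q_eq h2 hQ hn2 (1 : F)
  have hx₀0 : Q x₀ ≠ 0 := by rw [hx₀]; exact one_ne_zero
  have hne0 : ∀ x, Q x ≠ 0 → x ≠ 0 := by
    rintro x hx rfl
    simp at hx
  obtain ⟨α, hα⟩ := heig x₀ hx₀0
  -- all eigenvalues agree
  have hsame : ∀ x y (α β : F), Q x ≠ 0 → Q y ≠ 0 → A x = α • x → A y = β • y → α = β := by
    intro x y α β hx hy hgx hgy
    by_cases h1 : Q (x + (1 : F) • y) = 0
    · by_cases h3 : Q (x + (-1 : F) • y) = 0
      · -- the bad case
        rw [one_smul, Q_add] at h1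
        rw [neg_one_smul, Q_add, QuadraticMap.map_neg, map_neg] at h3
        have hsum : (2 : F) * (Q x + Q y) = 0 := by linear_combination h1 + h3
        have hQyx : Q y = - Q x := by
          have := (mul_eq_zero.mp hsum).resolve_left h2
          linear_combination this
        have hPxy : P Q x y = 0 := by
          have : (2 : F) * P Q x y = 0 := by linear_combination h1 - h3
          exact (mul_eq_zero.mp this).resolve_left h2
        have hT := inf_orth_pair h2 hx hy hPxy
        obtain ⟨z, hz, hQz⟩ := exists_orth_Q_eq h2 hQ (Submodule.span F {x, y}) hT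
          (by have := finrank_span_pair_le (F := F) x y; omega) (Q x)
        have hz0 : Q z ≠ 0 := by rw [hQz]; exact hx
        have hxz : P Q x z = 0 := mem_orth.mp hz x (Submodule.subset_span (by simp))
        have hyz : P Q y z = 0 := mem_orth.mp hz y (Submodule.subset_span (by simp))
        obtain ⟨γ, hγ⟩ := heig z hz0
        have hw0 : Q (x + (1 : F) • z) ≠ 0 := by
          rw [one_smul, Q_add, hxz, hQz, add_zero]
          rw [← two_mul]
          exact mul_ne_zero h2 hx
        obtain ⟨δ, hδ⟩ := heig _ hw0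
        have h4 : α = γ := same_eig' hgx hγ (hne0 x hx) (hne0 z hz0) one_ne_zero hδ
        have hw : A (x + (1 : F) • z) = α • (x + (1 : F) • z) := by
          rw [map_add, map_smul, hgx, hγ, ← h4, smul_add, smul_comm]
        have hw1 : Q ((x + (1 : F) • z) + (1 : F) • y) ≠ 0 := by
          rw [one_smul, one_smul, Q_add, Q_add, hxz, hQz, hQyx, (P Q).map_add, LinearMap.add_apply,
            hPxy, pol_comm Q z y, hyz]
          simp only [add_zero]
          have : Q x + Q x + -Q x = Q x := by ring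
          rw [this]
          exact hx
        obtain ⟨ε, hε⟩ := heig _ hw1
        exact same_eig' hw hgy (hne0 _ hw0) (hne0 y hy) one_ne_zero hε
      · obtain ⟨δ, hδ⟩ := heig _ h3
        exact same_eig' hgx hgy (hne0 x hx) (hne0 y hy) (neg_ne_zero.mpr one_ne_zero) hδ
    · obtain ⟨δ, hδ⟩ := heig _ h1
      exact same_eig' hgx hgy (hne0 x hx) (hne0 y hy) one_ne_zero hδ
  have hall : ∀ x, Q x ≠ 0 → A x = α • x := by
    intro x hx
    obtain ⟨β, hβ⟩ := heig x hx
    rw [hβ, hsame x₀ x α β hx₀0 hx hα hβ]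
  refine ⟨α, ?_⟩
  intro v
  have hv : v ∈ Submodule.span F {x : V | Q x ≠ 0} := by
    rw [span_nonsing hQ (by omega)]
    trivial
  induction hv using Submodule.span_induction with
  | mem x hx => exact hall x hx
  | zero => simp
  | add x y _ _ hx hy => rw [map_add, hx, hy, smul_add]
  | smul c x _ hx => rw [map_smul, hx, smul_comm]

end commutant

end Cfsg.Agent.Lib.Known3.SimAut
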