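import Mathlib
import Cfsg.Agent.Lib.Known3.SimAut
import Cfsg.Agent.Lib.Classical.OrthOrder
import Cfsg.Agent.Lib.Classical.OrthSing

/-! The kernel of the action, multipliers and the characters on the similarity group. -/

set_option autoImplicit false
set_option linter.unusedSectionVars false

namespace Cfsg.Agent.Lib.Known3.SimAut

open Cfsg.Agent.Lib.Classical.Witt Cfsg.Agent.Lib.Classical.Abs Cfsg.Agent.Lib.Classical
open Cfsg.Agent.Lib.Classical.Orth Cfsg.Agent.Lib.Known3.Spinor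
open Matrix
open scoped commutatorElement

local notation "P" => QuadraticMap.polarBilin

section

variable {ι : Type} [Fintype ι] [DecidableEq ι] {F : Type*} [Field F] {Q : QuadraticForm F (ι → F)}

/-- Scalars as similarities. -/
def scal (Q : QuadraticForm F (ι → F)) (c : Fˣ) : Sim (⇑Q) :=
  ⟨⟨(c : F) • 1, ((c⁻¹ : Fˣ) : F) • 1, by simp [smul_smul], by simp [smul_smul]⟩, ⟨c * c, fun v => by
    have : (((c : F) • (1 : Matrix ι ι F))) *ᵥ v = (c : F) • v := by simp [Matrix.smul_mulVec]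
    change Q (((c : F) • (1 : Matrix ι ι F)) *ᵥ v) = _
    rw [this, Cfsg.Agent.Lib.Classical.Witt.Q_smul]
    simp⟩⟩

@[simp] lemma scal_coe (c : Fˣ) : ((scal Q c : Sim (⇑Q)) : GL ι F).1 = (c : F) • 1 := rfl

lemma scal_mul (c d : Fˣ) : scal Q (c * d) = scal Q c * scal Q d := by
  apply Subtype.ext
  apply Units.ext
  change ((c * d : Fˣ) : F) • (1 : Matrix ι ι F) = ((c : F) • 1) * ((d : F) • 1)
  simp [smul_smul, mul_comm]

lemma scal_comm (c : Fˣ) (g : Sim (⇑Q)) : scal Q c * g = g * scal Q c := by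
  apply Subtype.ext
  apply Units.ext
  change ((c : F) • (1 : Matrix ι ι F)) * g.1.1 = g.1.1 * ((c : F) • 1)
  simp

lemma Ψ_scal (c : Fˣ) : Ψ (⇑Q) (scal Q c) = 1 := by
  have h : conjO (⇑Q) (scal Q c) = 1 := by
    apply MulEquiv.ext
    intro h
    apply Subtype.ext
    apply Units.ext
    change (((c : F) • (1 : Matrix ι ι F)) * h.1.1 * ((c⁻¹ : Fˣ) : F) • 1) = h.1.1
    simp [smul_smul]
  change autP (conjO (⇑Q) (scal Q c)) = 1
  rw [h, map_one]

lemma perfect_of_equiv {A B : Type*} [Group A] [Group B] (e : A ≃* B) (h : commutator B = ⊤) : commutator A = ⊤ := by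
  have h1 : (commutator A).map e.toMonoidHom = commutator B := by
    rw [commutator_def, commutator_def, Subgroup.map_commutator, Subgroup.map_top_of_surjective _ e.surjective]
  rw [eq_top_iff]
  intro x _
  have h3 : e x ∈ (commutator A).map e.toMonoidHom := by
    rw [h1, h]
    trivial
  obtain ⟨y, hy, hxy⟩ := h3
  have : y = x := e.injective hxy
  exact this ▸ hy

variable [Fintype F]

/-- The kernel of the action consists of scalars. -/
theorem scalar_of_Ψ (h2 : (2 : F) ≠ 0) (hQ : (P Q).Nondegenerate) (hn : 5 ≤ Fintype.card ι) (g : Sim (⇑Q))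
    (h : Ψ (⇑Q) g = 1) : ∃ c : Fˣ, g = scal Q c := by
  classical
  have hfr : Module.finrank F (ι → F) = Fintype.card ι := by simp
  have hperf : commutator (commutator (Cfsg.isometryGroup F (⇑Q))) = ⊤ :=
    perfect_of_equiv (omegaEquiv Q) (comm_perfect hQ (by omega))
  have hfix : ∀ {x}, x ∈ commutator (Cfsg.isometryGroup F (⇑Q)) → conjO (⇑Q) g x = x := fun hx => fix_of_autP hperf _ h hx
  -- the commutation with the pairs of reflections
  have hA : CommPairs Q (Matrix.mulVecLin g.1.1) := by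
    intro u w hu hw huw x
    have hm : refl Q u hu * refl Q w hw ∈ commutator (OG Q) :=
      refl_mul_refl_mem hQ hu hw (c := 1) one_ne_zero (by rw [huw]; ring)
    set y : Cfsg.isometryGroup F (⇑Q) := (toOG Q).symm (refl Q u hu * refl Q w hw) with hy
    have hy1 : y ∈ Cfsg.Omega F (⇑Q) := by
      rw [mem_Omega_iff, hy]
      simpa using hm
    have hy2 := hfix hy1
    have hy3 : g.1 * y.1 = y.1 * g.1 := by
      have h3 := congrArg Subtype.val hy2
      have h4 : g.1 * y.1 * g.1⁻¹ = y.1 := h3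
      calc g.1 * y.1 = (g.1 * y.1 * g.1⁻¹) * g.1 := by group
        _ = y.1 * g.1 := by rw [h4]
    have hy4 : ∀ z, y.1.1 *ᵥ z = (refl Q u hu * refl Q w hw).1 z := by
      intro z
      rw [hy]
      exact toOG_symm_apply Q _ z
    have hy5 : g.1.1 * y.1.1 = y.1.1 * g.1.1 := congrArg Units.val hy3
    simp only [Matrix.mulVecLin_apply]
    rw [← hy4, ← hy4, Matrix.mulVec_mulVec, Matrix.mulVec_mulVec, hy5]
  obtain ⟨α, hα⟩ := scalar_of_commPairs h2 hQ (by omega) _ hA
  have hM : g.1.1 = α • 1 := by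
    apply Matrix.mulVec_injective
    funext v
    have := hα v
    rw [Matrix.mulVecLin_apply] at this
    rw [this]
    simp [Matrix.smul_mulVec]
  have hα0 : α ≠ 0 := by
    rintro rfl
    have h3 := g.1.isUnit
    rw [hM, zero_smul] at h3
    haveI : Nontrivial ι := Fintype.one_lt_card_iff_nontrivial.1 (by omega)
    exact not_isUnit_zero h3
  refine ⟨Units.mk0 α hα0, ?_⟩
  apply Subtype.ext
  apply Units.ext
  rw [hM]
  rfl

/-- A non-singular vector exists. -/
lemma exists_nonsing (h2 : (2 : F) ≠ 0) (hQ : (P Q).Nondegenerate) (hn : 2 ≤ Fintype.card ι) : ∃ v, Q v = 1 :=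
  exists_Q_eq h2 hQ (by simpa using hn) 1

/-- The multiplier. -/
noncomputable def mu (Q : QuadraticForm F (ι → F)) (hne : ∃ v, Q v ≠ 0) : Sim (⇑Q) →* Fˣ where
  toFun g := g.2.choose
  map_one' := by
    obtain ⟨v, hv⟩ := hne
    have h := (Subgroup.one_mem (Sim (⇑Q))).choose_spec v
    apply Units.ext
    have h3 : (((1 : Sim (⇑Q)).2.choose : Fˣ) : F) * Q v = 1 * Q v := by
      have e1 := (1 : Sim (⇑Q)).2.choose_spec v
      rw [← e1, one_mul]
      simp
    exact mul_right_cancel₀ hv h3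
  map_mul' a b := by
    obtain ⟨v, hv⟩ := hne
    apply Units.ext
    have h3 : ((a * b).2.choose : F) * Q v = ((a.2.choose * b.2.choose : Fˣ) : F) * Q v := by
      have e1 := (a * b).2.choose_spec v
      rw [← e1]
      have e2 : (((a * b : Sim (⇑Q)) : GL ι F) : Matrix ι ι F) *ᵥ v = (a.1 : Matrix ι ι F) *ᵥ ((b.1 : Matrix ι ι F) *ᵥ v) := by
        rw [Matrix.mulVec_mulVec]
        rfl
      rw [e2, a.2.choose_spec, b.2.choose_spec, Units.val_mul, mul_assoc]
    exact mul_right_cancel₀ hv h3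

variable (hne : ∃ v, Q v ≠ 0)

lemma mu_spec (g : Sim (⇑Q)) (v : ι → F) : Q ((g.1 : Matrix ι ι F) *ᵥ v) = (mu Q hne g : F) * Q v :=
  g.2.choose_spec v

lemma mu_unique (g : Sim (⇑Q)) (c : Fˣ) (h : ∀ v, Q ((g.1 : Matrix ι ι F) *ᵥ v) = (c : F) * Q v) : mu Q hne g = c := by
  obtain ⟨v, hv⟩ := hne
  apply Units.ext
  apply mul_right_cancel₀ hv
  rw [← h v, ← mu_spec]

lemma mu_scal (c : Fˣ) : mu Q hne (scal Q c) = c * c := by
  apply mu_unique
  intro v
  have : (((c : F) • (1 : Matrix ι ι F))) *ᵥ v = (c : F) • v := by simp [Matrix.smul_mulVec]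
  change Q (((c : F) • (1 : Matrix ι ι F)) *ᵥ v) = _
  rw [this, Cfsg.Agent.Lib.Classical.Witt.Q_smul]
  simp

lemma mu_of_iso (g : Sim (⇑Q)) (hg : g.1 ∈ Cfsg.isometryGroup F (⇑Q)) : mu Q hne g = 1 := by
  apply mu_unique
  intro v
  rw [(mem_isometryGroup_iff _ _).1 hg]
  simp

lemma iso_of_mu (g : Sim (⇑Q)) (hg : mu Q hne g = 1) : g.1 ∈ Cfsg.isometryGroup F (⇑Q) := by
  rw [mem_isometryGroup_iff]
  intro v
  rw [mu_spec (hne := hne), hg]
  simp

lemma polar_mu (g : Sim (⇑Q)) (u v : ι → F) :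
    QuadraticMap.polar (⇑Q) ((g.1 : Matrix ι ι F) *ᵥ u) ((g.1 : Matrix ι ι F) *ᵥ v) = (mu Q hne g : F) * QuadraticMap.polar (⇑Q) u v := by
  simp only [QuadraticMap.polar, ← Matrix.mulVec_add, mu_spec (hne := hne)]
  ring

lemma transpose_gram_mul_sim (g : Sim (⇑Q)) :
    (g.1 : Matrix ι ι F).transpose * gram Q * (g.1 : Matrix ι ι F) = (mu Q hne g : F) • gram Q := by
  ext i j
  have h1 := dot_gram_mulVec Q ((g.1 : Matrix ι ι F) *ᵥ Pi.single i 1) ((g.1 : Matrix ι ι F) *ᵥ Pi.single j 1)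
  rw [polar_mu hne] at h1
  have h2 : ((g.1 : Matrix ι ι F).transpose * gram Q * (g.1 : Matrix ι ι F)) i j =
      ((g.1 : Matrix ι ι F) *ᵥ Pi.single i 1) ⬝ᵥ (gram Q *ᵥ ((g.1 : Matrix ι ι F) *ᵥ Pi.single j 1)) := by
    rw [Matrix.mulVec_mulVec, Matrix.mulVec_single_one, Matrix.mulVec_single_one, Matrix.mul_assoc,
      Matrix.mul_apply]
    rfl
  rw [h2, h1]
  rfl

lemma det_sq (hQ : (P Q).Nondegenerate) (g : Sim (⇑Q)) :
    (g.1 : Matrix ι ι F).det * (g.1 : Matrix ι ι F).det = (mu Q hne g : F) ^ Fintype.card ι := by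
  have h := congrArg Matrix.det (transpose_gram_mul_sim hne g)
  rw [Matrix.det_mul, Matrix.det_mul, Matrix.det_transpose, Matrix.det_smul] at h
  have h0 := gram_det_ne_zero Q hQ
  apply mul_right_cancel₀ h0
  linear_combination h

/-- The determinant up to the multiplier. -/
lemma det_cases (hQ : (P Q).Nondegenerate) {h : ℕ} (hc : Fintype.card ι = 2 * h) (g : Sim (⇑Q)) :
    (g.1 : Matrix ι ι F).det = (mu Q hne g : F) ^ h ∨ (g.1 : Matrix ι ι F).det = - (mu Q hne g : F) ^ h := by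
  have h1 := det_sq hne hQ g
  have h3 : ((g.1 : Matrix ι ι F).det - (mu Q hne g : F) ^ h) * ((g.1 : Matrix ι ι F).det + (mu Q hne g : F) ^ h) = 0 := by
    rw [hc, pow_mul', pow_two] at h1
    linear_combination h1
  rcases mul_eq_zero.1 h3 with h4 | h4
  · exact Or.inl (sub_eq_zero.1 h4)
  · exact Or.inr (by linear_combination h4)

open scoped _root_.Classical in
/-- The sign character on the similarity group. -/
noncomputable def eps (Q : QuadraticForm F (ι → F)) (hne : ∃ v, Q v ≠ 0) (hQ : (P Q).Nondegenerate) (h2 : (2 : F) ≠ 0) {h : ℕ}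
    (hc : Fintype.card ι = 2 * h) : Sim (⇑Q) →* ℤˣ where
  toFun g := if (g.1 : Matrix ι ι F).det = (mu Q hne g : F) ^ h then 1 else -1
  map_one' := by
    simp
  map_mul' a b := by
    have hne' : ∀ g : Sim (⇑Q), (mu Q hne g : F) ^ h ≠ 0 := fun g => pow_ne_zero _ (Units.ne_zero _)
    have hneg : ∀ g : Sim (⇑Q), ¬ (- (mu Q hne g : F) ^ h = (mu Q hne g : F) ^ h) := by
      intro g h3
      have : (2 : F) * (mu Q hne g : F) ^ h = 0 := by linear_combination -h3
      exact (mul_ne_zero h2 (hne' g)) this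
    have hd : ((a * b : Sim (⇑Q)).1 : Matrix ι ι F).det = (a.1 : Matrix ι ι F).det * (b.1 : Matrix ι ι F).det := by
      rw [← Matrix.det_mul]
      rfl
    have hm : (mu Q hne (a * b) : F) ^ h = (mu Q hne a : F) ^ h * (mu Q hne b : F) ^ h := by
      rw [map_mul, Units.val_mul, mul_pow]
    have hneg2 : ∀ x : F, x ≠ 0 → ¬ (- x = x) := by
      intro x hx h3
      have : (2 : F) * x = 0 := by linear_combination -h3
      exact (mul_ne_zero h2 hx) this
    rcases det_cases hne hQ hc a with h3 | h3 <;> rcases det_cases hne hQ hc b with h4 | h4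
    · rw [if_pos h3, if_pos h4, if_pos (by rw [hd, hm, h3, h4])]
      rfl
    · rw [if_pos h3, h4, if_neg (hneg b), if_neg (by
        rw [hd, hm, h3, h4]
        intro h5
        apply hneg2 ((mu Q hne a : F) ^ h * (mu Q hne b : F) ^ h) (mul_ne_zero (hne' a) (hne' b))
        linear_combination h5)]
      rfl
    · rw [h3, if_neg (hneg a), if_pos h4, if_neg (by
        rw [hd, hm, h3, h4]
        intro h5
        apply hneg2 ((mu Q hne a : F) ^ h * (mu Q hne b : F) ^ h) (mul_ne_zero (hne' a) (hne' b))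
        linear_combination h5)]
      rfl
    · rw [h3, if_neg (hneg a), h4, if_neg (hneg b), if_pos (by
        rw [hd, hm, h3, h4]
        ring)]
      rfl

variable {hne} {hQ : (P Q).Nondegenerate} {h2 : (2 : F) ≠ 0} {h : ℕ} {hc : Fintype.card ι = 2 * h}

lemma eps_eq_one_iff (g : Sim (⇑Q)) : eps Q hne hQ h2 hc g = 1 ↔ (g.1 : Matrix ι ι F).det = (mu Q hne g : F) ^ h := by
  classical
  change (if _ then _ else _) = _ ↔ _
  split_ifs with h3
  · simp [h3]
  · simp only [h3, iff_false]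
    decide

lemma eps_scal (c : Fˣ) : eps Q hne hQ h2 hc (scal Q c) = 1 := by
  rw [eps_eq_one_iff, mu_scal, scal_coe, Matrix.det_smul, Matrix.det_one, hc, mul_one, Units.val_mul, pow_mul, pow_two]

open scoped _root_.Classical in
/-- The class of the multiplier modulo squares. -/
noncomputable def aa (Q : QuadraticForm F (ι → F)) (hne : ∃ v, Q v ≠ 0) : Sim (⇑Q) →* ℤˣ :=
  (quadraticChar F).toUnitHom.comp (mu Q hne)

open scoped _root_.Classical in
lemma aa_eq_one_iff (g : Sim (⇑Q)) : aa Q hne g = 1 ↔ IsSquare (mu Q hne g : F) := by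
  rw [← quadraticChar_one_iff_isSquare (Units.ne_zero _)]
  change (quadraticChar F).toUnitHom (mu Q hne g) = 1 ↔ _
  rw [← MulChar.coe_toUnitHom]
  constructor
  · intro h3
    rw [h3]
    rfl
  · intro h3
    exact Units.ext h3

lemma aa_scal (c : Fˣ) : aa Q hne (scal Q c) = 1 := by
  rw [aa_eq_one_iff, mu_scal]
  exact ⟨c, rfl⟩

/-- A similarity with square multiplier is a scalar times an isometry. -/
lemma exists_scal_mul (g : Sim (⇑Q)) (hg : aa Q hne g = 1) :
    ∃ (c : Fˣ) (k : Sim (⇑Q)), g = scal Q c * k ∧ k.1 ∈ Cfsg.isometryGroup F (⇑Q) := by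
  obtain ⟨s, hs⟩ := (aa_eq_one_iff g).1 hg
  have hs0 : s ≠ 0 := by
    rintro rfl
    rw [mul_zero] at hs
    exact Units.ne_zero _ hs
  let c : Fˣ := Units.mk0 s hs0
  refine ⟨c, (scal Q c)⁻¹ * g, by group, ?_⟩
  apply iso_of_mu (hne := hne)
  rw [map_mul, map_inv, mu_scal]
  apply Units.ext
  simp only [Units.val_mul, Units.val_inv_eq_inv_val, hs, c, Units.val_mk0]
  have : s * s ≠ 0 := mul_ne_zero hs0 hs0
  field_simp
  simp

end

end Cfsg.Agent.Lib.Known3.SimAut
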