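import Mathlib
import Cfsg.Agent.Lib.Known3.SimAut2

/-! The descent of homomorphisms to the images in the automorphism group, and the group `PGO/PSO`. -/

set_option autoImplicit false
set_option linter.unusedSectionVars false

namespace Cfsg.Agent.Lib.Known3.SimAut

open Cfsg.Agent.Lib.Classical.Witt Cfsg.Agent.Lib.Classical.Abs Cfsg.Agent.Lib.Classical
open Cfsg.Agent.Lib.Classical.Orth Cfsg.Agent.Lib.Known3.Spinor
open Matrix
open scoped commutatorElement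

local notation "P" => QuadraticMap.polarBilin

section lift

variable {ι : Type} [Fintype ι] [DecidableEq ι] {F : Type*} [Field F] {Q : (ι → F) → F}

lemma mem_SL {g : GL ι F} : g ∈ Cfsg.Geo.specialLinear ι F ↔ (g : Matrix ι ι F).det = 1 := by
  rw [Cfsg.Geo.specialLinear, MonoidHom.mem_ker, Units.ext_iff]
  rfl

theorem exists_lift {B : Type*} [Group B] (S T : Subgroup (GL ι F)) (hTS : T ≤ S)
    (f : ↥(S.subgroupOf (Sim Q)) →* B) (hf : Function.Surjective f)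
    (h1 : ∀ g : S.subgroupOf (Sim Q), Ψ Q g.1 = 1 → f g = 1)
    (h2 : ∀ g : S.subgroupOf (Sim Q), f g = 1 → ∃ g' : Sim Q, g'.1 ∈ T ∧ Ψ Q g.1 = Ψ Q g')
    (h3 : ∀ g : S.subgroupOf (Sim Q), g.1.1 ∈ T → f g = 1) :
    ∃ φ : ↥(img Q S) →* B, Function.Surjective φ ∧ φ.ker = (img Q T).subgroupOf (img Q S) := by
  let ψ : ↥(S.subgroupOf (Sim Q)) →* ↥(img Q S) := (Ψ Q).subgroupMap _
  have hψ : Function.Surjective ψ := MonoidHom.subgroupMap_surjective _ _
  have hker : ψ.ker ≤ f.ker := by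
    intro g hg
    rw [MonoidHom.mem_ker] at hg ⊢
    exact h1 g (congrArg Subtype.val hg)
  let φ : ↥(img Q S) →* B := ψ.liftOfSurjective hψ ⟨f, hker⟩
  have hφ : ∀ g, φ (ψ g) = f g := fun g => MonoidHom.liftOfRightInverse_comp_apply _ _ _ ⟨f, hker⟩ g
  refine ⟨φ, ?_, ?_⟩
  · intro b
    obtain ⟨g, rfl⟩ := hf b
    exact ⟨ψ g, hφ g⟩
  · ext x
    rw [MonoidHom.mem_ker, Subgroup.mem_subgroupOf]
    obtain ⟨g, rfl⟩ := hψ x
    rw [hφ]
    constructor
    · intro h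
      obtain ⟨g', h3', h4⟩ := h2 g h
      rw [mem_img]
      exact ⟨g', h3', h4.symm⟩
    · intro h
      obtain ⟨g', h3', h4⟩ := mem_img.1 h
      have h5 : g'.1 ∈ S := hTS h3'
      let g'' : S.subgroupOf (Sim Q) := ⟨g', h5⟩
      have h6 : ψ g = ψ g'' := by
        apply Subtype.ext
        exact h4.symm
      have h7 := hφ g
      rw [h6, hφ] at h7
      rw [← h7]
      exact h3 g'' h3'

/-- The version for a homomorphism defined on all similarities. -/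
theorem exists_lift' {B : Type*} [Group B] (S T : Subgroup (GL ι F)) (hTS : T ≤ S)
    (f : Sim Q →* B) (hf : ∀ b : B, ∃ g : Sim Q, g.1 ∈ S ∧ f g = b)
    (h1 : ∀ g : Sim Q, Ψ Q g = 1 → f g = 1)
    (h2 : ∀ g : Sim Q, g.1 ∈ S → f g = 1 → ∃ g' : Sim Q, g'.1 ∈ T ∧ Ψ Q g = Ψ Q g')
    (h3 : ∀ g : Sim Q, g.1 ∈ T → f g = 1) :
    ∃ φ : ↥(img Q S) →* B, Function.Surjective φ ∧ φ.ker = (img Q T).subgroupOf (img Q S) := by
  apply exists_lift S T hTS (f.comp (S.subgroupOf (Sim Q)).subtype)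
  · intro b
    obtain ⟨g, hg, rfl⟩ := hf b
    exact ⟨⟨g, hg⟩, rfl⟩
  · intro g hg
    exact h1 g.1 hg
  · intro g hg
    exact h2 g.1 g.2 hg
  · intro g hg
    exact h3 g.1 hg

end lift

section units

/-- The sign group as `ZMod 2`. -/
def signZ : ℤˣ ≃* Multiplicative (ZMod 2) where
  toFun u := if u = 1 then Multiplicative.ofAdd 0 else Multiplicative.ofAdd 1
  invFun x := if x = Multiplicative.ofAdd 0 then 1 else -1
  left_inv := by decide
  right_inv := by decide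
  map_mul' := by decide

/-- The group of pairs of signs. -/
def signZZ : ℤˣ × ℤˣ →* Multiplicative (ZMod 2 × ZMod 2) where
  toFun u := Multiplicative.ofAdd (Multiplicative.toAdd (signZ u.1), Multiplicative.toAdd (signZ u.2))
  map_one' := by decide
  map_mul' := by decide

lemma signZZ_eq_one {u : ℤˣ × ℤˣ} : signZZ u = 1 ↔ u = 1 := by
  revert u
  decide

lemma signZZ_surj : Function.Surjective signZZ := by
  decide

end units

section main

variable {ι : Type} [Fintype ι] [DecidableEq ι] {F : Type*} [Field F] {Q : QuadraticForm F (ι → F)}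
variable [Fintype F]
variable {hne : ∃ v, Q v ≠ 0} {hQ : (P Q).Nondegenerate} {h2 : (2 : F) ≠ 0} {h : ℕ} {hc : Fintype.card ι = 2 * h}

lemma aa_of_iso (g : Sim (⇑Q)) (hg : g.1 ∈ Cfsg.isometryGroup F (⇑Q)) : aa Q hne g = 1 := by
  rw [aa_eq_one_iff, mu_of_iso (hne := hne) g hg]
  simp

lemma eps_of_iso (g : Sim (⇑Q)) (hg : g.1 ∈ Cfsg.isometryGroup F (⇑Q)) :
    eps Q hne hQ h2 hc g = 1 ↔ (g.1 : Matrix ι ι F).det = 1 := by
  rw [eps_eq_one_iff, mu_of_iso (hne := hne) g hg]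
  simp

/-- An isometry as an element of the group of similarities. -/
def isoSim (g : Cfsg.isometryGroup F (⇑Q)) : Sim (⇑Q) := ⟨g.1, isometry_le_sim _ g.2⟩

/-- A reflection with the characters computed. -/
lemma exists_refl (hne : ∃ v, Q v ≠ 0) (hQ : (P Q).Nondegenerate) (h2 : (2 : F) ≠ 0) {h : ℕ} (hc : Fintype.card ι = 2 * h)
    (v : ι → F) (hv : Q v ≠ 0) :
    aa Q hne (isoSim (reflIso Q v hv)) = 1 ∧ eps Q hne hQ h2 hc (isoSim (reflIso Q v hv)) = -1 := by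
  refine ⟨aa_of_iso _ (reflIso Q v hv).2, ?_⟩
  have h3 := eps_of_iso (hne := hne) (hQ := hQ) (h2 := h2) (hc := hc) (isoSim (reflIso Q v hv)) (reflIso Q v hv).2
  have h4 : ((isoSim (reflIso Q v hv)).1 : Matrix ι ι F).det = -1 := by
    change ((reflIso Q v hv : Cfsg.isometryGroup F (⇑Q)).1 : Matrix ι ι F).det = -1
    rw [reflIso_coe, reflectionMatrix_det Q v hv]
  have hne1 : (-1 : F) ≠ 1 := fun h5 => h2 (by linear_combination -h5)
  rcases Int.units_eq_one_or (eps Q hne hQ h2 hc (isoSim (reflIso Q v hv))) with h5 | h5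
  · rw [h5] at h3
    exact absurd (h4.symm.trans (h3.1 rfl)) hne1
  · exact h5

/-- The group `PGO/PSO`. -/
theorem pgo_pso (hne : ∃ v, Q v ≠ 0) (hQ : (P Q).Nondegenerate) (h2 : (2 : F) ≠ 0) {h : ℕ} (hc : Fintype.card ι = 2 * h)
    (hn : 5 ≤ Fintype.card ι) (d : Sim (⇑Q)) (hd : ¬ IsSquare (mu Q hne d : F)) (hde : eps Q hne hQ h2 hc d = 1) :
    ∃ φ : ↥(Cfsg.pgoAut F (⇑Q)) →* Multiplicative (ZMod 2 × ZMod 2), Function.Surjective φ ∧
      φ.ker = (Cfsg.psoAut F (⇑Q)).subgroupOf (Cfsg.pgoAut F (⇑Q)) := by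
  rw [pgoAut_eq, psoAut_eq]
  let f₀ : Sim (⇑Q) →* ℤˣ × ℤˣ := (aa Q hne).prod (eps Q hne hQ h2 hc)
  have hd1 : aa Q hne d = -1 := by
    rcases Int.units_eq_one_or (aa Q hne d) with h3 | h3
    · exact absurd ((aa_eq_one_iff d).1 h3) hd
    · exact h3
  obtain ⟨v, hv⟩ := hne
  obtain ⟨hr1, hr2⟩ := exists_refl ⟨v, hv⟩ hQ h2 hc v hv
  set r := isoSim (reflIso Q v hv) with hr
  apply exists_lift' (Sim (⇑Q)) (Cfsg.specialIsometryGL F (⇑Q)) (special_le_sim _) (signZZ.comp f₀)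
  · intro b
    obtain ⟨⟨x, y⟩, rfl⟩ := signZZ_surj b
    have : ∃ g : Sim (⇑Q), f₀ g = (x, y) := by
      rcases Int.units_eq_one_or x with rfl | rfl <;> rcases Int.units_eq_one_or y with rfl | rfl
      · exact ⟨1, map_one f₀⟩
      · refine ⟨r, ?_⟩
        exact Prod.ext hr1 hr2
      · refine ⟨d, ?_⟩
        exact Prod.ext hd1 hde
      · refine ⟨d * r, ?_⟩
        apply Prod.ext
        · change aa Q ⟨v, hv⟩ (d * r) = -1
          rw [map_mul, hd1, hr1]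
          rfl
        · change eps Q ⟨v, hv⟩ hQ h2 hc (d * r) = -1
          rw [map_mul, hde, hr2]
          rfl
    obtain ⟨g, hg⟩ := this
    exact ⟨g, g.2, by rw [MonoidHom.comp_apply, hg]⟩
  · intro g hg
    obtain ⟨c, rfl⟩ := scalar_of_Ψ h2 hQ hn g hg
    rw [MonoidHom.comp_apply, signZZ_eq_one]
    exact Prod.ext (aa_scal c) (eps_scal c)
  · intro g _ hg
    rw [MonoidHom.comp_apply, signZZ_eq_one] at hg
    have h3 : aa Q ⟨v, hv⟩ g = 1 := congrArg Prod.fst hg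
    have h4 : eps Q ⟨v, hv⟩ hQ h2 hc g = 1 := congrArg Prod.snd hg
    obtain ⟨c, k, rfl, hk⟩ := exists_scal_mul g h3
    refine ⟨k, ⟨hk, ?_⟩, ?_⟩
    · rw [map_mul, eps_scal, one_mul] at h4
      exact mem_SL.2 ((eps_of_iso (hne := ⟨v, hv⟩) (hQ := hQ) (h2 := h2) (hc := hc) k hk).1 h4)
    · rw [map_mul, Ψ_scal, one_mul]
  · intro g hg
    rw [MonoidHom.comp_apply, signZZ_eq_one]
    have h3 : g.1 ∈ Cfsg.isometryGroup F (⇑Q) := hg.1
    have h4 : (g.1 : Matrix ι ι F).det = 1 := mem_SL.1 hg.2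
    exact Prod.ext (aa_of_iso g h3) ((eps_of_iso g h3).2 h4)

end main

end Cfsg.Agent.Lib.Known3.SimAut
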