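import Mathlib
import Cfsg.Agent.Lib.Known3.SimAut3
import Cfsg.Agent.Lib.Known3.OmegaCalc
import Cfsg.Agent.Lib.Classical.OrderMinus

/-! The explicit similarities with non-square multiplier. -/

set_option autoImplicit false
set_option linter.unusedSectionVars false

namespace Cfsg.Agent.Lib.Known3.SimAut

open Cfsg.Agent.Lib.Classical.Witt Cfsg.Agent.Lib.Classical.Abs Cfsg.Agent.Lib.Classical
open Cfsg.Agent.Lib.Classical.Orth Cfsg.Agent.Lib.Known3.Spinor Cfsg.Agent.Lib.Known3.OmegaCalc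
open Matrix
open scoped commutatorElement

local notation "P" => QuadraticMap.polarBilin

variable {F : Type*} [Field F] {m : ℕ}

lemma exists_nonsq [Fintype F] (h2 : (2 : F) ≠ 0) : ∃ ν : F, ν ≠ 0 ∧ ¬ IsSquare ν := by
  have hchar : ringChar F ≠ 2 := by
    intro h
    apply h2
    have := ringChar.Nat.cast_ringChar (R := F)
    rw [h] at this
    exact_mod_cast this
  obtain ⟨ν, hν⟩ := FiniteField.exists_nonsquare hchar
  refine ⟨ν, ?_, hν⟩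
  rintro rfl
  exact hν IsSquare.zero

/-- The matrix of the similarity on a hyperbolic space. -/
def dPlusM (ν : F) : Matrix (Fin m ⊕ Fin m) (Fin m ⊕ Fin m) F := diagonal (Sum.elim (fun _ => ν) (fun _ => 1))

lemma dPlusM_det (ν : F) : (dPlusM (m := m) ν).det = ν ^ m := by
  simp [dPlusM, det_diagonal, Fintype.prod_sum_type]

lemma dPlusM_pres (ν : F) (v : Fin m ⊕ Fin m → F) : Qplus m F (dPlusM ν *ᵥ v) = ν * Qplus m F v := by
  rw [Qplus_apply, Qplus_apply]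
  simp [Cfsg.quadFormPlus, dPlusM, mulVec_diagonal, Finset.mul_sum, mul_assoc]

/-- The similarity on a hyperbolic space. -/
noncomputable def dPlus (ν : F) (hν : ν ≠ 0) : Sim (⇑(Qplus m F)) :=
  ⟨GeneralLinearGroup.mkOfDetNeZero (dPlusM ν) (by rw [dPlusM_det]; exact pow_ne_zero _ hν),
    ⟨Units.mk0 ν hν, dPlusM_pres ν⟩⟩

lemma dPlus_coe (ν : F) (hν : ν ≠ 0) : ((dPlus ν hν : Sim (⇑(Qplus m F))).1).1 = dPlusM ν := rfl

/-- The matrix of the similarity in the minus case. -/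
def dMinusM (a b ν s t : F) : Matrix ((Fin m ⊕ Fin m) ⊕ Fin 2) ((Fin m ⊕ Fin m) ⊕ Fin 2) F :=
  fromBlocks (diagonal (Sum.elim (fun _ => ν) (fun _ => 1))) 0 0 !![s, -b * t; t, s + a * t]

lemma dMinusM_det (a b ν s t : F) (hν : ν = s ^ 2 + a * s * t + b * t ^ 2) : (dMinusM (m := m) a b ν s t).det = ν ^ (m + 1) := by
  rw [dMinusM, det_fromBlocks_zero₁₂, det_fin_two_of, hν, pow_succ]
  simp only [det_diagonal, Fintype.prod_sum_type, Sum.elim_inl, Sum.elim_inr]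
  simp
  ring

lemma dMinusM_pres (a b ν s t : F) (hν : ν = s ^ 2 + a * s * t + b * t ^ 2) (v : (Fin m ⊕ Fin m) ⊕ Fin 2 → F) :
    Qminus m F a b (dMinusM a b ν s t *ᵥ v) = ν * Qminus m F a b v := by
  rw [Qminus_apply, Qminus_apply, dMinusM, fromBlocks_mulVec]
  simp only [Cfsg.quadFormMinus, Sum.elim_inl, Sum.elim_inr, zero_mulVec, add_zero, zero_add, Pi.add_apply]
  have e1 : ∀ i : Fin m, (diagonal (Sum.elim (fun _ => ν) (fun _ => 1)) *ᵥ (v ∘ Sum.inl)) (Sum.inl i) = ν * v (Sum.inl (Sum.inl i)) := by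
    intro i
    simp [mulVec_diagonal]
  have e2 : ∀ i : Fin m, (diagonal (Sum.elim (fun _ => ν) (fun _ => 1)) *ᵥ (v ∘ Sum.inl)) (Sum.inr i) = v (Sum.inl (Sum.inr i)) := by
    intro i
    simp [mulVec_diagonal]
  have e3 : (!![s, -b * t; t, s + a * t] *ᵥ (v ∘ Sum.inr)) 0 = s * v (Sum.inr 0) + -b * t * v (Sum.inr 1) := by
    simp [mulVec, dotProduct, Fin.sum_univ_two]
  have e4 : (!![s, -b * t; t, s + a * t] *ᵥ (v ∘ Sum.inr)) 1 = t * v (Sum.inr 0) + (s + a * t) * v (Sum.inr 1) := by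
    simp [mulVec, dotProduct, Fin.sum_univ_two]
  simp only [e1, e2, e3, e4, mul_add, Finset.mul_sum, mul_assoc]
  rw [hν]
  ring

/-- The similarity in the minus case. -/
noncomputable def dMinus (a b ν s t : F) (hν0 : ν ≠ 0) (hν : ν = s ^ 2 + a * s * t + b * t ^ 2) : Sim (⇑(Qminus m F a b)) :=
  ⟨GeneralLinearGroup.mkOfDetNeZero (dMinusM a b ν s t) (by rw [dMinusM_det a b ν s t hν]; exact pow_ne_zero _ hν0),
    ⟨Units.mk0 ν hν0, dMinusM_pres a b ν s t hν⟩⟩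

lemma dMinus_coe (a b ν s t : F) (hν0 : ν ≠ 0) (hν : ν = s ^ 2 + a * s * t + b * t ^ 2) :
    ((dMinus a b ν s t hν0 hν : Sim (⇑(Qminus m F a b))).1).1 = dMinusM a b ν s t := rfl

variable [Fintype F]

/-- The binary form represents all values. -/
lemma exists_rep (h2 : (2 : F) ≠ 0) (a b : F) (hab : ∀ z₁ z₂ : F, z₁ ^ 2 + a * z₁ * z₂ + b * z₂ ^ 2 = 0 → z₁ = 0 ∧ z₂ = 0) (ν : F) :
    ∃ s t : F, ν = s ^ 2 + a * s * t + b * t ^ 2 := by
  obtain ⟨v, hv⟩ := exists_Q_eq h2 (Qminus_nondeg hab 0) (by simp) ν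
  refine ⟨v (Sum.inr 0), v (Sum.inr 1), ?_⟩
  rw [Qminus_apply] at hv
  rw [← hv]
  simp [Cfsg.quadFormMinus]

lemma card_plus : Fintype.card (Fin m ⊕ Fin m) = 2 * m := by simp [two_mul]

lemma card_minus : Fintype.card ((Fin m ⊕ Fin m) ⊕ Fin 2) = 2 * (m + 1) := by simp; ring

lemma ne_plus (h2 : (2 : F) ≠ 0) (hm : 1 ≤ m) : ∃ v, Qplus m F v ≠ 0 := by
  obtain ⟨v, hv⟩ := exists_Q_eq (c := 1) h2 (Qplus_nondeg m) (by
    rw [Module.finrank_fintype_fun_eq_card, card_plus]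
    omega)
  exact ⟨v, by rw [hv]; exact one_ne_zero⟩

lemma ne_minus (h2 : (2 : F) ≠ 0) (a b : F) (hab : ∀ z₁ z₂ : F, z₁ ^ 2 + a * z₁ * z₂ + b * z₂ ^ 2 = 0 → z₁ = 0 ∧ z₂ = 0) : ∃ v, Qminus m F a b v ≠ 0 := by
  obtain ⟨v, hv⟩ := exists_Q_eq (c := 1) h2 (Qminus_nondeg hab m) (by
    rw [Module.finrank_fintype_fun_eq_card, card_minus]
    omega)
  exact ⟨v, by rw [hv]; exact one_ne_zero⟩

lemma mu_dPlus (h2 : (2 : F) ≠ 0) (hm : 1 ≤ m) (ν : F) (hν : ν ≠ 0) :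
    (mu _ (ne_plus h2 hm) (dPlus ν hν : Sim (⇑(Qplus m F))) : F) = ν := by
  have := mu_unique (ne_plus (m := m) h2 hm) (dPlus ν hν) (Units.mk0 ν hν) (dPlusM_pres ν)
  rw [this]
  rfl

lemma eps_dPlus (h2 : (2 : F) ≠ 0) (hm : 1 ≤ m) (ν : F) (hν : ν ≠ 0) :
    eps _ (ne_plus h2 hm) (Qplus_nondeg m) h2 card_plus (dPlus ν hν : Sim (⇑(Qplus m F))) = 1 := by
  rw [eps_eq_one_iff, mu_dPlus h2 hm, dPlus_coe, dPlusM_det]

variable (a b : F) (hab : ∀ z₁ z₂ : F, z₁ ^ 2 + a * z₁ * z₂ + b * z₂ ^ 2 = 0 → z₁ = 0 ∧ z₂ = 0)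

lemma mu_dMinus (h2 : (2 : F) ≠ 0) (ν s t : F) (hν0 : ν ≠ 0) (hν : ν = s ^ 2 + a * s * t + b * t ^ 2) :
    (mu _ (ne_minus h2 a b hab) (dMinus a b ν s t hν0 hν : Sim (⇑(Qminus m F a b))) : F) = ν := by
  have := mu_unique (ne_minus (m := m) h2 a b hab) (dMinus a b ν s t hν0 hν) (Units.mk0 ν hν0) (dMinusM_pres a b ν s t hν)
  rw [this]
  rfl

lemma eps_dMinus (h2 : (2 : F) ≠ 0) (ν s t : F) (hν0 : ν ≠ 0) (hν : ν = s ^ 2 + a * s * t + b * t ^ 2) :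
    eps _ (ne_minus h2 a b hab) (Qminus_nondeg hab m) h2 card_minus (dMinus a b ν s t hν0 hν : Sim (⇑(Qminus m F a b))) = 1 := by
  rw [eps_eq_one_iff, mu_dMinus a b hab h2, dMinus_coe, dMinusM_det a b ν s t hν]

theorem plus_pgo_pso (h2 : (2 : F) ≠ 0) (hm : 3 ≤ m) :
    ∃ φ : ↥(Cfsg.pgoAut F (⇑(Qplus m F))) →* Multiplicative (ZMod 2 × ZMod 2), Function.Surjective φ ∧
      φ.ker = (Cfsg.psoAut F (⇑(Qplus m F))).subgroupOf (Cfsg.pgoAut F (⇑(Qplus m F))) := by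
  obtain ⟨ν, hν0, hν⟩ := exists_nonsq h2
  have hm1 : 1 ≤ m := by omega
  exact pgo_pso (ne_plus h2 hm1) (Qplus_nondeg m) h2 card_plus (by rw [card_plus]; omega) (dPlus ν hν0)
    (by rw [mu_dPlus h2 hm1]; exact hν) (eps_dPlus h2 hm1 ν hν0)

include hab in
theorem minus_pgo_pso (h2 : (2 : F) ≠ 0) (hm : 2 ≤ m) :
    ∃ φ : ↥(Cfsg.pgoAut F (⇑(Qminus m F a b))) →* Multiplicative (ZMod 2 × ZMod 2), Function.Surjective φ ∧
      φ.ker = (Cfsg.psoAut F (⇑(Qminus m F a b))).subgroupOf (Cfsg.pgoAut F (⇑(Qminus m F a b))) := by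
  obtain ⟨ν, hν0, hν⟩ := exists_nonsq h2
  obtain ⟨s, t, hst⟩ := exists_rep h2 a b hab ν
  exact pgo_pso (ne_minus h2 a b hab) (Qminus_nondeg hab m) h2 card_minus (by rw [card_minus]; omega) (dMinus a b ν s t hν0 hst)
    (by rw [mu_dMinus a b hab h2]; exact hν) (eps_dMinus a b hab h2 ν s t hν0 hst)

end Cfsg.Agent.Lib.Known3.SimAut
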