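import Mathlib
import Cfsg.Agent.Lib.Known3.SimAut4
import Cfsg.Agent.Lib.Classical.SymForm
import Cfsg.Agent.S2620
import Cfsg.Agent.S2621

/-! The spinor character, the element `-1`, and the index of `T` in the image of `SO`. -/

set_option autoImplicit false
set_option linter.unusedSectionVars false

namespace Cfsg.Agent.Lib.Known3.SimAut

open Cfsg.Agent.Lib.Classical.Witt Cfsg.Agent.Lib.Classical.Abs Cfsg.Agent.Lib.Classical
open Cfsg.Agent.Lib.Classical.Orth Cfsg.Agent.Lib.Known3.Spinor Cfsg.Agent.Lib.Known3.OmegaCalc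
open Cfsg.Agent.Lib.Known3.OmegaTrans Cfsg.Agent.Lib.Classical.Sym
open Matrix
open scoped commutatorElement

local notation "P" => QuadraticMap.polarBilin

variable {ι : Type} [Fintype ι] [DecidableEq ι] {F : Type*} [Field F] [Fintype F] {Q : QuadraticForm F (ι → F)}

lemma exists_list_of (h2 : (2 : F) ≠ 0) (hQ : (P Q).Nondegenerate) (g : Cfsg.isometryGroup F (⇑Q)) :
    ∃ L : List (NS Q), toOG Q g = prodL L :=
  exists_list (by rw [Rf_eq_top_odd h2 hQ]; trivial)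

lemma coe_eq_mL {g : Cfsg.isometryGroup F (⇑Q)} {L : List (NS Q)} (h : toOG Q g = prodL L) : g.1.1 = mL Q L := by
  have : g = isoL Q L := (toOG Q).injective (by rw [h, toOG_isoL])
  rw [this, isoL_coe]

/-- The spinor character. -/
noncomputable def spin (Q : QuadraticForm F (ι → F)) (ν : F) : Cfsg.isometryGroup F (⇑Q) →* ℤˣ :=
  (sgn Q ν).comp (toOG Q).toMonoidHom

open scoped _root_.Classical in
lemma spin_isoL (h2 : (2 : F) ≠ 0) {ν : F} (hν0 : ν ≠ 0) (hν : ¬ IsSquare ν) {g : Cfsg.isometryGroup F (⇑Q)} {L : List (NS Q)}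
    (h : toOG Q g = prodL L) : spin Q ν g = 1 ↔ IsSquare (L.map (fun v => Q v.1)).prod := by
  have h3 : spin Q ν g = sgn Q ν (prodL L) := by
    rw [← h]
    rfl
  rw [h3, ← quadraticChar_one_iff_isSquare (prod_ne_zero L), ← sgn_prodL_nonsq h2 hν0 hν]
  constructor
  · intro h4
    rw [h4]
    rfl
  · intro h4
    exact Units.ext h4

/-- Membership in `Ω` through the determinant and the spinor character. -/
theorem mem_Omega_iff_spin (h2 : (2 : F) ≠ 0) (hQ : (P Q).Nondegenerate) {ν : F} (hν0 : ν ≠ 0) (hν : ¬ IsSquare ν)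
    (g : Cfsg.isometryGroup F (⇑Q)) : g ∈ Cfsg.Omega F (⇑Q) ↔ g.1.1.det = 1 ∧ spin Q ν g = 1 := by
  obtain ⟨L, hL⟩ := exists_list_of h2 hQ g
  have hne1 : (-1 : F) ≠ 1 := fun h5 => h2 (by linear_combination -h5)
  rw [mem_Omega_iff, hL, mem_comm_odd h2 hQ, coe_eq_mL hL, det_mL, spin_isoL h2 hν0 hν hL,
    neg_one_pow_eq_one_iff_even hne1]

/-- `-1` is in `Ω`. -/
def NegOm (Q : QuadraticForm F (ι → F)) : Prop :=
  ∃ g : Cfsg.isometryGroup F (⇑Q), g ∈ Cfsg.Omega F (⇑Q) ∧ g.1.1 = -1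

/-- The element `-1` as an isometry. -/
noncomputable def negI (Q : QuadraticForm F (ι → F)) : Cfsg.isometryGroup F (⇑Q) :=
  mkIso' (⇑Q) (-1) (by
    rw [Matrix.det_neg, Matrix.det_one, mul_one]
    exact pow_ne_zero _ (neg_ne_zero.2 one_ne_zero)) (fun x => by
      rw [Matrix.neg_mulVec, Matrix.one_mulVec, QuadraticMap.map_neg])

lemma negI_coe : (negI Q).1.1 = -1 := rfl

lemma negI_det (he : Even (Fintype.card ι)) : (negI Q).1.1.det = 1 := by
  rw [negI_coe, Matrix.det_neg, Matrix.det_one, mul_one, he.neg_one_pow]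

lemma isoSim_negI : isoSim (negI Q) = scal Q (-1) := by
  apply Subtype.ext
  apply Units.ext
  change (-1 : Matrix ι ι F) = ((-1 : Fˣ) : F) • 1
  simp

lemma negOm_iff : NegOm Q ↔ negI Q ∈ Cfsg.Omega F (⇑Q) := by
  constructor
  · rintro ⟨g, hg, hg1⟩
    have : g = negI Q := by
      apply Subtype.ext
      apply Units.ext
      rw [hg1, negI_coe]
    rwa [← this]
  · intro h
    exact ⟨_, h, rfl⟩

lemma Ψ_isoSim_neg (k : Cfsg.isometryGroup F (⇑Q)) : Ψ (⇑Q) (isoSim (negI Q * k)) = Ψ (⇑Q) (isoSim k) := by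
  have h : isoSim (negI Q * k) = scal Q (-1) * isoSim k := by
    rw [← isoSim_negI]
    rfl
  rw [h, map_mul, Ψ_scal, one_mul]

lemma OmegaGL_le_SO (h2 : (2 : F) ≠ 0) (hQ : (P Q).Nondegenerate) : OmegaGL (⇑Q) ≤ Cfsg.specialIsometryGL F (⇑Q) := by
  rintro _ ⟨x, hx, rfl⟩
  obtain ⟨ν, hν0, hν⟩ := exists_nonsq h2
  exact ⟨x.2, mem_SL.2 ((mem_Omega_iff_spin h2 hQ hν0 hν x).1 hx).1⟩

/-- If `-1` is not in `Ω`, the images of `SO` and `Ω` coincide. -/
theorem pso_eq_inn (h2 : (2 : F) ≠ 0) (hQ : (P Q).Nondegenerate) (he : Even (Fintype.card ι)) (hneg : ¬ NegOm Q) :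
    Cfsg.psoAut F (⇑Q) = Cfsg.Inn (Cfsg.POmega F (⇑Q)) := by
  rw [psoAut_eq, Inn_eq]
  obtain ⟨ν, hν0, hν⟩ := exists_nonsq h2
  apply le_antisymm
  · intro β hβ
    obtain ⟨g, hg, rfl⟩ := mem_img.1 hβ
    let k : Cfsg.isometryGroup F (⇑Q) := ⟨g.1, hg.1⟩
    have hg' : g = isoSim k := rfl
    have hdet : k.1.1.det = 1 := mem_SL.1 hg.2
    rcases Int.units_eq_one_or (spin Q ν k) with h3 | h3
    · exact mem_img.2 ⟨g, ⟨k, (mem_Omega_iff_spin h2 hQ hν0 hν k).2 ⟨hdet, h3⟩, rfl⟩, rfl⟩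
    · have h4 : spin Q ν (negI Q) = -1 := by
        rcases Int.units_eq_one_or (spin Q ν (negI Q)) with h5 | h5
        · exact absurd (negOm_iff.2 ((mem_Omega_iff_spin h2 hQ hν0 hν _).2 ⟨negI_det he, h5⟩)) hneg
        · exact h5
      have h6 : negI Q * k ∈ Cfsg.Omega F (⇑Q) := by
        rw [mem_Omega_iff_spin h2 hQ hν0 hν]
        refine ⟨?_, ?_⟩
        · change ((negI Q).1.1 * k.1.1).det = 1
          rw [Matrix.det_mul, negI_det he, hdet, one_mul]
        · rw [map_mul, h3, h4]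
          rfl
      refine mem_img.2 ⟨isoSim (negI Q * k), ⟨_, h6, rfl⟩, ?_⟩
      rw [Ψ_isoSim_neg, hg']
  · intro β hβ
    obtain ⟨g, hg, rfl⟩ := mem_img.1 hβ
    exact mem_img.2 ⟨g, OmegaGL_le_SO h2 hQ hg, rfl⟩

/-- An isometry acting as a scalar is `±1`. -/
lemma scal_iso_cases (hne : ∃ v, Q v ≠ 0) {c : Fˣ} (h : (scal Q c).1 ∈ Cfsg.isometryGroup F (⇑Q)) : c = 1 ∨ c = -1 := by
  have h1 := mu_of_iso (hne := hne) (scal Q c) h
  rw [mu_scal] at h1
  have h3 : (c : F) * c = 1 := by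
    have := congrArg Units.val h1
    simpa using this
  rcases mul_self_eq_one_iff.1 h3 with h4 | h4
  · exact Or.inl (Units.ext h4)
  · exact Or.inr (Units.ext (by simpa using h4))

/-- If `-1` is in `Ω`: an isometry with image in `T` lies in `Ω`. -/
theorem mem_Omega_of_inn (h2 : (2 : F) ≠ 0) (hQ : (P Q).Nondegenerate) (hn : 5 ≤ Fintype.card ι) (hne : ∃ v, Q v ≠ 0)
    (hneg : NegOm Q) (k : Cfsg.isometryGroup F (⇑Q)) (hk : Ψ (⇑Q) (isoSim k) ∈ Cfsg.Inn (Cfsg.POmega F (⇑Q))) :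
    k ∈ Cfsg.Omega F (⇑Q) := by
  rw [Inn_eq] at hk
  obtain ⟨g, ⟨ω, hω, hωg⟩, hg⟩ := mem_img.1 hk
  have hgω : g = isoSim ω := Subtype.ext hωg.symm
  subst hgω
  have h3 : Ψ (⇑Q) (isoSim k * (isoSim ω)⁻¹) = 1 := by
    rw [map_mul, map_inv, hg, mul_inv_cancel]
  obtain ⟨c, hc⟩ := scalar_of_Ψ h2 hQ hn _ h3
  have h4 : (scal Q c).1 ∈ Cfsg.isometryGroup F (⇑Q) := by
    rw [← hc]
    exact (Cfsg.isometryGroup F (⇑Q)).mul_mem k.2 ((Cfsg.isometryGroup F (⇑Q)).inv_mem ω.2)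
  have h5 : isoSim k = scal Q c * isoSim ω := by
    rw [← hc]
    group
  rcases scal_iso_cases hne h4 with rfl | rfl
  · have : k = ω := by
      have h6 : scal Q 1 = 1 := by
        apply Subtype.ext
        apply Units.ext
        change ((1 : Fˣ) : F) • (1 : Matrix ι ι F) = 1
        simp
      rw [h6, one_mul] at h5
      have h7 : (isoSim k).1 = (isoSim ω).1 := congrArg Subtype.val h5
      exact Subtype.ext h7
    rwa [this]
  · have : k = negI Q * ω := by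
      rw [← isoSim_negI] at h5
      have h7 : (isoSim k).1 = (isoSim (negI Q) * isoSim ω).1 := congrArg Subtype.val h5
      exact Subtype.ext h7
    rw [this]
    exact Subgroup.mul_mem _ (negOm_iff.1 hneg) hω

/-- The element of `SO` of non-trivial spinor norm. -/
lemma exists_spin_neg (h2 : (2 : F) ≠ 0) (hQ : (P Q).Nondegenerate) (hn : 2 ≤ Fintype.card ι) {ν : F} (hν0 : ν ≠ 0) (hν : ¬ IsSquare ν) :
    ∃ k : Cfsg.isometryGroup F (⇑Q), k.1.1.det = 1 ∧ spin Q ν k = -1 := by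
  have hfr : 2 ≤ Module.finrank F (ι → F) := by simpa using hn
  obtain ⟨u, hu⟩ := exists_Q_eq (c := 1) h2 hQ hfr
  obtain ⟨w, hw⟩ := exists_Q_eq (c := ν) h2 hQ hfr
  let L : List (NS Q) := [⟨u, by rw [hu]; exact one_ne_zero⟩, ⟨w, by rw [hw]; exact hν0⟩]
  refine ⟨isoL Q L, ?_, ?_⟩
  · rw [isoL_coe, det_mL]
    simp [L]
  · rcases Int.units_eq_one_or (spin Q ν (isoL Q L)) with h3 | h3
    · have h4 := (spin_isoL h2 hν0 hν (toOG_isoL Q L)).1 h3
      simp [L, hu, hw] at h4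
      exact absurd h4 hν
    · exact h3

/-- The inclusion of `SO` in the isometry group. -/
noncomputable def inclSO (Q : QuadraticForm F (ι → F)) :
    ↥((Cfsg.specialIsometryGL F (⇑Q)).subgroupOf (Sim (⇑Q))) →* Cfsg.isometryGroup F (⇑Q) where
  toFun g := ⟨g.1.1, (Subgroup.mem_subgroupOf.1 g.2).1⟩
  map_one' := rfl
  map_mul' _ _ := rfl

lemma spin_surj (h2 : (2 : F) ≠ 0) (hQ : (P Q).Nondegenerate) (hn : 5 ≤ Fintype.card ι) {ν : F} (hν0 : ν ≠ 0) (hν : ¬ IsSquare ν) :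
    Function.Surjective ((spin Q ν).comp (inclSO Q)) := by
  intro b
  rcases Int.units_eq_one_or b with rfl | rfl
  · exact ⟨1, map_one _⟩
  · obtain ⟨k, hk1, hk2⟩ := exists_spin_neg h2 hQ (by omega) hν0 hν
    exact ⟨⟨isoSim k, ⟨k.2, mem_SL.2 hk1⟩⟩, hk2⟩

lemma spin_h1 (h2 : (2 : F) ≠ 0) (hQ : (P Q).Nondegenerate) (hn : 5 ≤ Fintype.card ι) (hne : ∃ v, Q v ≠ 0)
    (hneg : NegOm Q) {ν : F} (hν0 : ν ≠ 0) (hν : ¬ IsSquare ν)
    (g : ↥((Cfsg.specialIsometryGL F (⇑Q)).subgroupOf (Sim (⇑Q)))) (hg : Ψ (⇑Q) g.1 = 1) :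
    (spin Q ν).comp (inclSO Q) g = 1 := by
  obtain ⟨c, hc⟩ := scalar_of_Ψ h2 hQ hn _ hg
  have hg1 : g.1.1 ∈ Cfsg.isometryGroup F (⇑Q) := (Subgroup.mem_subgroupOf.1 g.2).1
  have h4 : (scal Q c).1 ∈ Cfsg.isometryGroup F (⇑Q) := by
    rw [← hc]
    exact hg1
  rcases scal_iso_cases hne h4 with rfl | rfl
  · have : inclSO Q g = 1 := by
      apply Subtype.ext
      change g.1.1 = 1
      rw [hc]
      apply Units.ext
      change ((1 : Fˣ) : F) • (1 : Matrix ι ι F) = 1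
      simp
    rw [MonoidHom.comp_apply, this, map_one]
  · have : inclSO Q g = negI Q := by
      apply Subtype.ext
      change g.1.1 = _
      rw [hc, ← isoSim_negI]
      rfl
    rw [MonoidHom.comp_apply, this]
    exact ((mem_Omega_iff_spin h2 hQ hν0 hν _).1 (negOm_iff.1 hneg)).2

/-- If `-1` is in `Ω`, the group `T` has index two in the image of `SO`. -/
theorem relIndex_two (h2 : (2 : F) ≠ 0) (hQ : (P Q).Nondegenerate) (hn : 5 ≤ Fintype.card ι) (hne : ∃ v, Q v ≠ 0)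
    (hneg : NegOm Q) : (Cfsg.Inn (Cfsg.POmega F (⇑Q))).relIndex (Cfsg.psoAut F (⇑Q)) = 2 := by
  rw [psoAut_eq, Inn_eq]
  obtain ⟨ν, hν0, hν⟩ := exists_nonsq h2
  obtain ⟨φ, hφ1, hφ2⟩ := exists_lift (Q := ⇑Q) (Cfsg.specialIsometryGL F (⇑Q)) (OmegaGL (⇑Q)) (OmegaGL_le_SO h2 hQ)
    ((spin Q ν).comp (inclSO Q)) (spin_surj h2 hQ hn hν0 hν) (spin_h1 h2 hQ hn hne hneg hν0 hν)
    (by
      intro g hg
      have hg1 : g.1.1 ∈ Cfsg.isometryGroup F (⇑Q) := (Subgroup.mem_subgroupOf.1 g.2).1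
      have hg2 : g.1.1 ∈ Cfsg.Geo.specialLinear ι F := (Subgroup.mem_subgroupOf.1 g.2).2
      exact ⟨g.1, ⟨⟨g.1.1, hg1⟩, (mem_Omega_iff_spin h2 hQ hν0 hν _).2 ⟨mem_SL.1 hg2, hg⟩, rfl⟩, rfl⟩)
    (by
      rintro g ⟨x, hx, hxg⟩
      have : inclSO Q g = x := Subtype.ext hxg.symm
      rw [MonoidHom.comp_apply, this]
      exact ((mem_Omega_iff_spin h2 hQ hν0 hν _).1 hx).2)
  rw [Subgroup.relIndex, ← hφ2, Subgroup.index_ker, MonoidHom.range_eq_top.2 hφ1, Subgroup.card_top, Nat.card_eq_fintype_card]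
  exact Fintype.card_units_int

/-- The discriminant criterion for `-1`. -/
theorem exists_basis_neg_iff (h2 : (2 : F) ≠ 0) (hQ : (P Q).Nondegenerate) (he : Even (Fintype.card ι)) :
    ∃ b : Module.Basis (Fin (Fintype.card ι)) F (ι → F),
      (NegOm Q ↔ IsSquare (Matrix.of (fun i j : Fin (Fintype.card ι) => QuadraticMap.polar ⇑Q (b i) (b j))).det) := by
  classical
  set n := Fintype.card ι with hn
  have hfr : Module.finrank F (ι → F) = n := by simp [hn]
  have hS : LinearMap.BilinForm.IsSymm (QuadraticMap.polarBilin Q) := ⟨fun a b => pol_comm Q a b⟩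
  obtain ⟨e, he1, he2⟩ := exists_orth_family h2 n (ι → F) (QuadraticMap.polarBilin Q) hS hQ hfr
  have heQ : ∀ i, Q (e i) ≠ 0 := by
    intro i h0
    apply he2 i
    rw [pol_self, h0, mul_zero]
  let e' : Fin n → NS Q := fun i => ⟨e i, heQ i⟩
  let b := orthBasis (QuadraticMap.polarBilin Q) e he1 he2 hfr
  have hb : ∀ i, b i = e i := fun i => orthBasis_apply _ e he1 he2 hfr i
  have hact : ∀ J : List (Fin n), J.Nodup → ∀ j, (prodL (J.map e')).1 (e j) = if j ∈ J then - e j else e j := by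
    intro J
    induction J with
    | nil =>
      intro _ j
      simp
    | cons a J ih =>
      intro hJ j
      rw [List.nodup_cons] at hJ
      rw [List.map_cons, prodL_cons, Orth.mul_apply', ih hJ.2 j]
      by_cases hja : j = a
      · subst hja
        rw [if_neg hJ.1, if_pos (List.mem_cons_self ..)]
        exact refl_self (heQ j)
      · have hfix : (refl Q (e a) (heQ a)).1 (e j) = e j := refl_fix (heQ a) (he1 a j (Ne.symm hja))
        by_cases hjJ : j ∈ J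
        · rw [if_pos hjJ, if_pos (List.mem_cons_of_mem _ hjJ), map_neg]
          change - (refl Q (e a) (heQ a)).1 (e j) = _
          rw [hfix]
        · rw [if_neg hjJ, if_neg (by simp [hja, hjJ])]
          exact hfix
  let L : List (NS Q) := (List.finRange n).map e'
  have hL : ∀ x, (prodL L).1 x = - x := by
    intro x
    have h3 : (prodL L).1.toLinearMap = - LinearMap.id := by
      apply b.ext
      intro j
      rw [hb]
      have := hact (List.finRange n) (List.nodup_finRange n) j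
      rw [if_pos (List.mem_finRange j)] at this
      exact this
    exact LinearMap.congr_fun h3 x
  have hM : (-1 : Matrix ι ι F) = mL Q L := by
    apply Matrix.mulVec_injective
    funext x
    rw [← prodL_apply, hL, Matrix.neg_mulVec, Matrix.one_mulVec]
  refine ⟨b, ?_⟩
  rw [NegOm, exists_Omega_iff Q L _ hM, mem_comm_odd h2 hQ]
  have hlen : L.length = n := by simp [L]
  have hprod : (L.map (fun v => Q v.1)).prod = ∏ i, Q (e i) := by
    rw [Fin.prod_univ_def]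
    simp [L, List.map_map, e']
    rfl
  rw [hlen, hprod]
  have hG : Matrix.of (fun i j : Fin n => QuadraticMap.polar ⇑Q (b i) (b j)) =
      Matrix.diagonal (fun i => QuadraticMap.polarBilin Q (e i) (e i)) := by
    ext i j
    by_cases hij : i = j
    · subst hij
      simp [hb]
    · simp only [Matrix.of_apply, hb, Matrix.diagonal_apply_ne _ hij]
      exact he1 i j hij
  rw [hG, Matrix.det_diagonal]
  have hprod2 : ∏ i, QuadraticMap.polarBilin Q (e i) (e i) = 2 ^ n * ∏ i, Q (e i) := by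
    simp only [pol_self]
    rw [Finset.prod_mul_distrib]
    simp
  rw [hprod2]
  obtain ⟨k, hk⟩ := he
  have ht : (2 : F) ^ k ≠ 0 := pow_ne_zero _ h2
  have h7 : (2 : F) ^ n = 2 ^ k * 2 ^ k := by rw [hk, pow_add]
  rw [h7]
  constructor
  · rintro ⟨_, s, hs⟩
    exact ⟨2 ^ k * s, by rw [hs]; ring⟩
  · rintro ⟨s, hs⟩
    refine ⟨⟨k, hk⟩, s / 2 ^ k, ?_⟩
    field_simp
    linear_combination hs

section criteria

variable {F : Type*} [Field F] [Fintype F] {m : ℕ}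

lemma pow_mod4 {q : ℕ} (hq : Odd q) (m : ℕ) : q ^ m % 4 = 1 ↔ ¬ (Odd m ∧ q % 4 = 3) := by
  have hq4 : q % 4 = 1 ∨ q % 4 = 3 := by
    have := Nat.odd_iff.1 hq
    omega
  have hsq : q ^ 2 % 4 = 1 := by
    rcases hq4 with h | h <;> simp [Nat.pow_mod, h]
  rcases Nat.even_or_odd' m with ⟨k, rfl | rfl⟩
  · have h1 : q ^ (2 * k) % 4 = 1 := by
      rw [pow_mul, Nat.pow_mod, hsq]
      simp
    simp [h1]
  · have h1 : q ^ (2 * k + 1) % 4 = q % 4 := by
      rw [pow_succ, pow_mul, Nat.mul_mod, Nat.pow_mod, hsq]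
      simp
    rw [h1]
    have : Odd (2 * k + 1) := ⟨k, rfl⟩
    simp only [this, true_and]
    omega

theorem negOm_plus {q : ℕ} (hF : Fintype.card F = q) (hq : Odd q) :
    NegOm (Qplus m F) ↔ ¬ (Odd m ∧ q % 4 = 3) := by
  rw [← pow_mod4 hq m, ← neg_first_iff hF hq (Qplus_nondeg m) Sum.inl Sum.inr (pair_plus m)
    (Sum.elim (fun j : Fin m => (j : ℕ)) (fun j : Fin m => (j : ℕ))) m le_rfl (by
      intro j _ k
      rcases k with k | k <;> simp [Fin.ext_iff])]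
  have : Matrix.diagonal (fun k : Fin m ⊕ Fin m => if (Sum.elim (fun j : Fin m => (j : ℕ)) (fun j : Fin m => (j : ℕ)) k) < m then (-1 : F) else 1) = -1 := by
    ext i j
    rcases i with i | i <;> rcases j with j | j <;> by_cases hij : i = j <;> simp [Matrix.diagonal, hij, Matrix.one_apply]
  rw [this, NegOm]

theorem negOm_minus {q : ℕ} (hF : Fintype.card F = q) (hq : Odd q) (a b : F)
    (hab : ∀ z₁ z₂ : F, z₁ ^ 2 + a * z₁ * z₂ + b * z₂ ^ 2 = 0 → z₁ = 0 ∧ z₂ = 0) :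
    NegOm (Qminus m F a b) ↔ (Even m ∧ q % 4 = 3) := by
  have h2 := two_ne_of_odd hF hq
  obtain ⟨B, hB⟩ := exists_basis_neg_iff (Q := Qminus m F a b) h2 (Qminus_nondeg hab m) (by rw [card_minus]; exact even_two_mul _)
  rw [hB, coe_Qminus]
  refine (Cfsg.Agent.S2621.result hF hq (m := m + 1) (by omega) a b hab B).trans ?_
  obtain ⟨k, rfl⟩ := hq
  have h3 : (m + 1) * (2 * k + 1 - 1) / 2 = (m + 1) * k := by
    have : (m + 1) * (2 * k + 1 - 1) = 2 * ((m + 1) * k) := by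
      rw [Nat.add_sub_cancel]
      ring
    rw [this]
    omega
  rw [h3, Nat.even_mul, not_or]
  rw [Nat.even_add_one, not_not, Nat.even_iff (n := k)]
  constructor <;> rintro ⟨h, h'⟩ <;> exact ⟨h, by omega⟩

end criteria

section final

variable {F : Type*} [Field F] [Fintype F] {m : ℕ}

theorem plus_relIndex (hodd : Odd (Fintype.card F)) (hm : 3 ≤ m) :
    ((Odd m ∧ Fintype.card F % 4 = 3) → (Cfsg.Inn (Cfsg.POmega F (⇑(Qplus m F)))).relIndex (Cfsg.psoAut F (⇑(Qplus m F))) = 1) ∧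
    (¬ (Odd m ∧ Fintype.card F % 4 = 3) → (Cfsg.Inn (Cfsg.POmega F (⇑(Qplus m F)))).relIndex (Cfsg.psoAut F (⇑(Qplus m F))) = 2) := by
  have h2 := two_ne_of_odd rfl hodd
  constructor
  · intro h
    rw [pso_eq_inn h2 (Qplus_nondeg m) (by rw [card_plus]; exact even_two_mul _) (by
      rw [negOm_plus rfl hodd]
      exact not_not.2 h)]
    exact Subgroup.relIndex_self _
  · intro h
    exact relIndex_two h2 (Qplus_nondeg m) (by rw [card_plus]; omega) (ne_plus h2 (by omega)) ((negOm_plus rfl hodd).2 h)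

theorem minus_relIndex (hodd : Odd (Fintype.card F)) (hm : 2 ≤ m) (a b : F)
    (hab : ∀ z₁ z₂ : F, z₁ ^ 2 + a * z₁ * z₂ + b * z₂ ^ 2 = 0 → z₁ = 0 ∧ z₂ = 0) :
    ((Even m ∧ Fintype.card F % 4 = 3) → (Cfsg.Inn (Cfsg.POmega F (⇑(Qminus m F a b)))).relIndex (Cfsg.psoAut F (⇑(Qminus m F a b))) = 2) ∧
    (¬ (Even m ∧ Fintype.card F % 4 = 3) → (Cfsg.Inn (Cfsg.POmega F (⇑(Qminus m F a b)))).relIndex (Cfsg.psoAut F (⇑(Qminus m F a b))) = 1) := by
  have h2 := two_ne_of_odd rfl hodd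
  constructor
  · intro h
    exact relIndex_two h2 (Qminus_nondeg hab m) (by rw [card_minus]; omega) (ne_minus h2 a b hab) ((negOm_minus rfl hodd a b hab).2 h)
  · intro h
    rw [pso_eq_inn h2 (Qminus_nondeg hab m) (by rw [card_minus]; exact even_two_mul _) (by
      rw [negOm_minus rfl hodd a b hab]
      exact h)]
    exact Subgroup.relIndex_self _

end final

end Cfsg.Agent.Lib.Known3.SimAut
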