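import Mathlib
import Cfsg.Agent.Lib.Known3.SimAut5
import Cfsg.Agent.Lib.Cl.CycNormal

/-! The quotient `PGO/T`: the dihedral case. -/

set_option autoImplicit false
set_option linter.unusedSectionVars false

namespace Cfsg.Agent.Lib.Known3.SimAut

open Cfsg.Agent.Lib.Classical.Witt Cfsg.Agent.Lib.Classical.Abs Cfsg.Agent.Lib.Classical
open Cfsg.Agent.Lib.Classical.Orth Cfsg.Agent.Lib.Known3.Spinor Cfsg.Agent.Lib.Known3.OmegaCalc
open Cfsg.Agent.Lib.Known3.OmegaTrans Cfsg.Agent.Lib.Classical.Sym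
open Matrix
open scoped commutatorElement

local notation "P" => QuadraticMap.polarBilin

section dih

variable {G : Type*} [Group G]

/-- Elements of order four are conjugate to themselves or their inverses in a group where the cyclic group has index two. -/
lemma conj_cases {a : G} (ha : orderOf a = 4) (hn : (Subgroup.zpowers a).Normal) (y : G) :
    y * a * y⁻¹ = a ∨ y * a * y⁻¹ = a⁻¹ := by
  have h1 : y * a * y⁻¹ ∈ Subgroup.zpowers a := hn.conj_mem a (Subgroup.mem_zpowers a) y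
  obtain ⟨k, hk⟩ := Subgroup.mem_zpowers_iff.1 h1
  have h4 : a ^ (4 : ℤ) = 1 := by
    have := pow_orderOf_eq_one a
    rw [ha] at this
    exact_mod_cast this
  have hkmod : a ^ k = a ^ (k % 4) := by
    conv_lhs => rw [← Int.mul_ediv_add_emod k 4, _root_.zpow_add, _root_.zpow_mul, h4, _root_.one_zpow, one_mul]
  have h0 : 0 ≤ k % 4 := Int.emod_nonneg _ (by norm_num)
  have h3 : k % 4 < 4 := Int.emod_lt_of_pos _ (by norm_num)
  have hord : ∀ j : ℕ, 0 < j → j < 4 → a ^ j ≠ 1 := by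
    intro j h5 h6
    have := pow_ne_one_of_lt_orderOf (x := a) (n := j) (by omega) (by omega)
    exact this
  have hconjsq : (y * a * y⁻¹) ^ 2 = y * a ^ 2 * y⁻¹ := by
    rw [conj_pow]
  rw [hkmod] at hk
  obtain h5 | h5 | h5 | h5 : k % 4 = 0 ∨ k % 4 = 1 ∨ k % 4 = 2 ∨ k % 4 = 3 := by omega
  · rw [h5, zpow_zero] at hk
    have : a = 1 := by
      have h7 : y * a * y⁻¹ = 1 := hk.symm
      have h8 := congrArg (fun z => y⁻¹ * z * y) h7
      simpa [mul_assoc] using h8
    exact absurd (by rw [this]; simp) (hord 1 (by norm_num) (by norm_num))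
  · left
    rw [h5, zpow_one] at hk
    exact hk.symm
  · exfalso
    rw [h5] at hk
    have h7 : y * a * y⁻¹ = a ^ 2 := by
      rw [← hk]
      norm_cast
    have h8 : y * a ^ 2 * y⁻¹ = 1 := by
      rw [← hconjsq, h7, ← pow_mul]
      have := pow_orderOf_eq_one a
      rw [ha] at this
      exact this
    have h9 : a ^ 2 = 1 := by
      have h10 := congrArg (fun z => y⁻¹ * z * y) h8
      simpa [mul_assoc] using h10
    exact hord 2 (by norm_num) (by norm_num) h9
  · right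
    rw [h5] at hk
    rw [← hk, eq_inv_iff_mul_eq_one, ← _root_.zpow_add_one]
    exact h4

/-- Recognition of the dihedral group of order eight. -/
theorem dih_of_card8 (hc : Nat.card G = 8) (t x : G) (ht : t * t = 1) (hne : t * x ≠ x * t) :
    Nonempty (G ≃* DihedralGroup 4) := by
  have hfin : Finite G := Nat.finite_of_card_ne_zero (by rw [hc]; norm_num)
  have hdvd : ∀ a : G, orderOf a ∣ 8 := fun a => by
    rw [← hc]
    exact orderOf_dvd_natCard a
  have hnotcomm : ¬ ∀ a b : G, a * b = b * a := fun h => hne (h t x)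
  -- an element of order four
  obtain ⟨a, ha⟩ : ∃ a : G, orderOf a = 4 := by
    by_contra hcon
    push Not at hcon
    have hcases : ∀ a : G, orderOf a = 1 ∨ orderOf a = 2 ∨ orderOf a = 8 := by
      intro a
      have h1 := hdvd a
      have h2 : orderOf a ∈ Nat.divisors 8 := Nat.mem_divisors.2 ⟨h1, by norm_num⟩
      have h3 : Nat.divisors 8 = {1, 2, 4, 8} := by decide
      rw [h3] at h2
      simp only [Finset.mem_insert, Finset.mem_singleton] at h2
      have := hcon a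
      tauto
    by_cases h8 : ∃ a : G, orderOf a = 8
    · obtain ⟨a, ha⟩ := h8
      have hcyc : IsCyclic G := isCyclic_of_orderOf_eq_card a (by rw [ha, hc])
      apply hnotcomm
      intro u v
      exact (IsCyclic.isMulCommutative (α := G)).is_comm.comm u v
    · push Not at h8
      have hsq : ∀ a : G, a * a = 1 := by
        intro a
        rcases hcases a with h | h | h
        · rw [orderOf_eq_one_iff] at h
          simp [h]
        · have := pow_orderOf_eq_one a
          rw [h, pow_two] at this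
          exact this
        · exact absurd h (h8 a)
      apply hnotcomm
      intro u v
      have h1 : (u * v) * (u * v) = 1 := hsq _
      have h2 : u * v * u * v = 1 := by rw [← h1]; group
      calc u * v = u * v * (u * v * (v * u)) := by
            have : u * v * (v * u) = 1 := by
              rw [mul_assoc, ← mul_assoc v v u, hsq v, one_mul, hsq u]
            rw [this, mul_one]
        _ = (u * v * (u * v)) * (v * u) := by group
        _ = v * u := by rw [h1, one_mul]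
  -- index two
  have hidx : (Subgroup.zpowers a).index = 2 := by
    have h1 := Subgroup.card_mul_index (Subgroup.zpowers a)
    rw [Nat.card_zpowers, ha, hc] at h1
    omega
  have hnorm : (Subgroup.zpowers a).Normal := Subgroup.normal_of_index_eq_two hidx
  have hconj := conj_cases ha hnorm
  have ha4 : a ^ 4 = 1 := by
    have := pow_orderOf_eq_one a
    rwa [ha] at this
  -- the square is central
  have hcent : ∀ y : G, y * a ^ 2 = a ^ 2 * y := by
    intro y
    have h1 : y * a ^ 2 * y⁻¹ = a ^ 2 := by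
      rw [← conj_pow]
      rcases hconj y with h | h
      · rw [h]
      · rw [h, inv_pow, inv_eq_iff_mul_eq_one, ← pow_add]
        exact ha4
    calc y * a ^ 2 = (y * a ^ 2 * y⁻¹) * y := by group
      _ = a ^ 2 * y := by rw [h1]
  have hnotin : t ∉ Subgroup.zpowers a := by
    intro hmem
    obtain ⟨k, hk⟩ := Subgroup.mem_zpowers_iff.1 hmem
    have hkmod : a ^ k = a ^ (k % 4) := by
      have h4 : a ^ (4 : ℤ) = 1 := by exact_mod_cast ha4
      conv_lhs => rw [← Int.mul_ediv_add_emod k 4, _root_.zpow_add, _root_.zpow_mul, h4, _root_.one_zpow, one_mul]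
    have h0 : 0 ≤ k % 4 := Int.emod_nonneg _ (by norm_num)
    have h3 : k % 4 < 4 := Int.emod_lt_of_pos _ (by norm_num)
    rw [hkmod] at hk
    have hcomm : t * x = x * t := by
      obtain h5 | h5 | h5 | h5 : k % 4 = 0 ∨ k % 4 = 1 ∨ k % 4 = 2 ∨ k % 4 = 3 := by omega
      · rw [h5, zpow_zero] at hk
        rw [← hk]
        simp
      · exfalso
        rw [h5, zpow_one] at hk
        rw [← hk] at ht
        have h6 : a ^ 2 = 1 := by rw [pow_two, ht]
        exact pow_ne_one_of_lt_orderOf (x := a) (n := 2) (by norm_num) (by omega) h6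
      · rw [h5] at hk
        have h6 : t = a ^ 2 := by
          rw [← hk]
          norm_cast
        rw [h6]
        exact (hcent x).symm
      · exfalso
        rw [h5] at hk
        have h6 : t = a ^ 3 := by
          rw [← hk]
          norm_cast
        rw [h6, ← pow_add] at ht
        have h7 : a ^ 2 = 1 := by
          have : a ^ (3 + 3) = a ^ 4 * a ^ 2 := by rw [← pow_add]
          rw [this, ha4, one_mul] at ht
          exact ht
        exact pow_ne_one_of_lt_orderOf (x := a) (n := 2) (by norm_num) (by omega) h7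
    exact hne hcomm
  have hinv : t * a * t⁻¹ = a⁻¹ := by
    rcases hconj t with h | h
    · exfalso
      have hta : t * a = a * t := by
        calc t * a = (t * a * t⁻¹) * t := by group
          _ = a * t := by rw [h]
      have hcz : ∀ z ∈ Subgroup.zpowers a, t * z = z * t := by
        intro z hz
        obtain ⟨k, rfl⟩ := Subgroup.mem_zpowers_iff.1 hz
        have : Commute t (a ^ k) := Commute.zpow_right hta k
        exact this
      by_cases hx : x ∈ Subgroup.zpowers a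
      · exact hne (hcz x hx)
      · have h3 : t⁻¹ * x ∈ Subgroup.zpowers a := by
          rw [Subgroup.mul_mem_iff_of_index_two hidx]
          constructor
          · intro h4
            exact absurd ((Subgroup.inv_mem_iff _).1 h4) hnotin
          · intro h4
            exact absurd h4 hx
        have h4 := hcz _ h3
        apply hne
        have h5 : t * (t⁻¹ * x) = (t⁻¹ * x) * t := h4
        calc t * x = t * t * (t⁻¹ * x) := by group
          _ = t * ((t⁻¹ * x) * t) := by rw [mul_assoc, h5]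
          _ = x * t := by group
    · exact h
  obtain ⟨n, ⟨e⟩⟩ := Cfsg.Agent.Lib.Cl.dihedral_of_inverts (a := a) (n := 2) (by rw [ha]; norm_num) (by norm_num) hidx hnotin
    (by rw [pow_two]; exact ht) hinv
  have hn : n = 4 := by
    have h3 := Nat.card_congr e.toEquiv
    rw [hc, DihedralGroup.nat_card] at h3
    omega
  subst hn
  exact ⟨e⟩

end dih

section main

lemma card_mult_four : Fintype.card (Multiplicative (ZMod 2 × ZMod 2)) = 4 := rfl

variable {ι : Type} [Fintype ι] [DecidableEq ι] {F : Type*} [Field F] [Fintype F] {Q : QuadraticForm F (ι → F)}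

lemma img_mono {Q : (ι → F) → F} {S T : Subgroup (GL ι F)} (h : S ≤ T) : img Q S ≤ img Q T := by
  intro β hβ
  obtain ⟨g, hg, rfl⟩ := mem_img.1 hβ
  exact mem_img.2 ⟨g, h hg, rfl⟩

lemma refl_conj (hne : ∃ v, Q v ≠ 0) (d : Sim (⇑Q)) (v : ι → F) (hv : Q v ≠ 0) :
    Cfsg.reflectionMatrix (⇑Q) (d.1.1 *ᵥ v) * d.1.1 = d.1.1 * Cfsg.reflectionMatrix (⇑Q) v := by
  apply Matrix.mulVec_injective
  funext x
  rw [← Matrix.mulVec_mulVec, ← Matrix.mulVec_mulVec, reflectionMatrix_mulVec, reflectionMatrix_mulVec,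
    polar_mu hne, mu_spec (hne := hne), Matrix.mulVec_sub, Matrix.mulVec_smul]
  congr 2
  have h0 : (mu Q hne d : F) ≠ 0 := Units.ne_zero _
  field_simp

lemma reflIso_mul_self (v : ι → F) (hv : Q v ≠ 0) : reflIso Q v hv * reflIso Q v hv = 1 := by
  apply (toOG Q).injective
  rw [map_mul, toOG_reflIso, map_one]
  exact refl_mul_self hv

/-- The abstract quotient. -/
lemma quotient_dih {X : Type*} [Group X] (A N : Subgroup X) [hN : N.Normal] (hidx : N.relIndex A = 8) (a b : X) (ha : a ∈ A) (hb : b ∈ A)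
    (haa : a * a = 1) (hnc : b * a * b⁻¹ * a ∉ N) :
    ∃ φ : ↥A →* DihedralGroup 4, Function.Surjective φ ∧ φ.ker = N.subgroupOf A := by
  haveI hNn : (N.subgroupOf A).Normal := Subgroup.Normal.subgroupOf hN _
  have hcard : Nat.card (↥A ⧸ (N.subgroupOf A)) = 8 := hidx
  let a' : ↥A := ⟨a, ha⟩
  let b' : ↥A := ⟨b, hb⟩
  have haa' : a' * a' = 1 := Subtype.ext haa
  have ht : (QuotientGroup.mk a' : ↥A ⧸ (N.subgroupOf A)) * QuotientGroup.mk a' = 1 := by
    rw [← QuotientGroup.mk_mul, haa']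
    rfl
  have hc : (QuotientGroup.mk a' : ↥A ⧸ (N.subgroupOf A)) * QuotientGroup.mk b' ≠ QuotientGroup.mk b' * QuotientGroup.mk a' := by
    intro heq
    rw [← QuotientGroup.mk_mul, ← QuotientGroup.mk_mul] at heq
    have h3 := QuotientGroup.eq_iff_div_mem.1 heq.symm
    apply hnc
    have h4 : ((b' * a' / (a' * b') : ↥A) : X) ∈ N := Subgroup.mem_subgroupOf.1 h3
    have h6 : a⁻¹ = a := inv_eq_of_mul_eq_one_left haa
    have h5 : ((b' * a' / (a' * b') : ↥A) : X) = b * a * b⁻¹ * a := by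
      change b * a / (a * b) = _
      rw [div_eq_mul_inv, _root_.mul_inv_rev, h6]
      group
    rwa [h5] at h4
  obtain ⟨e⟩ := dih_of_card8 hcard _ _ ht hc
  refine ⟨e.toMonoidHom.comp (QuotientGroup.mk' (N.subgroupOf A)), e.surjective.comp (QuotientGroup.mk'_surjective _), ?_⟩
  ext x
  rw [MonoidHom.mem_ker, MonoidHom.comp_apply]
  change e (QuotientGroup.mk x) = 1 ↔ _
  rw [map_eq_one_iff e e.injective, QuotientGroup.eq_one_iff]

/-- The commutator of a reflection and a similarity with non-square multiplier is not in `T`. -/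
lemma comm_not_inn (h2 : (2 : F) ≠ 0) (hQ : (P Q).Nondegenerate) (hn : 5 ≤ Fintype.card ι) (hne : ∃ v, Q v ≠ 0) (hneg : NegOm Q)
    (d : Sim (⇑Q)) (hd : ¬ IsSquare (mu Q hne d : F)) (v : ι → F) (hv : Q v ≠ 0) :
    Ψ (⇑Q) d * Ψ (⇑Q) (isoSim (reflIso Q v hv)) * (Ψ (⇑Q) d)⁻¹ * Ψ (⇑Q) (isoSim (reflIso Q v hv)) ∉ Cfsg.Inn (Cfsg.POmega F (⇑Q)) := by
  intro hmem
  have hdv : Q (d.1.1 *ᵥ v) ≠ 0 := by
    rw [mu_spec (hne := hne)]
    exact mul_ne_zero (Units.ne_zero _) hv
  let L : List (NS Q) := [⟨d.1.1 *ᵥ v, hdv⟩, ⟨v, hv⟩]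
  let r : Sim (⇑Q) := isoSim (reflIso Q v hv)
  have hc1 : isoSim (isoL Q L) = d * r * d⁻¹ * r := by
    apply Subtype.ext
    apply Units.ext
    change (isoL Q L).1.1 = d.1.1 * r.1.1 * (d⁻¹).1.1 * r.1.1
    rw [isoL_coe]
    have h5 : mL Q L = Cfsg.reflectionMatrix (⇑Q) (d.1.1 *ᵥ v) * Cfsg.reflectionMatrix (⇑Q) v := by
      simp [mL, L]
    have h6 : r.1.1 = Cfsg.reflectionMatrix (⇑Q) v := reflIso_coe Q v hv
    have h7 : d.1.1 * r.1.1 * (d⁻¹).1.1 = Cfsg.reflectionMatrix (⇑Q) (d.1.1 *ᵥ v) := by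
      rw [h6, ← refl_conj hne d v hv, Matrix.mul_assoc]
      have : d.1.1 * (d⁻¹).1.1 = 1 := by
        have := congrArg Units.val (mul_inv_cancel d.1)
        exact this
      rw [this, Matrix.mul_one]
    rw [h5, h7, h6]
  have hc2 : Ψ (⇑Q) (isoSim (isoL Q L)) ∈ Cfsg.Inn (Cfsg.POmega F (⇑Q)) := by
    rw [hc1, map_mul, map_mul, map_mul, map_inv]
    exact hmem
  have hc3 := mem_Omega_of_inn h2 hQ hn hne hneg _ hc2
  rw [mem_Omega_iff, toOG_isoL, mem_comm_odd h2 hQ] at hc3
  obtain ⟨s, hs⟩ := hc3.2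
  apply hd
  simp only [L, List.map_cons, List.map_nil, List.prod_cons, List.prod_nil, mul_one] at hs
  rw [mu_spec (hne := hne)] at hs
  refine ⟨s / Q v, ?_⟩
  field_simp
  linear_combination hs

lemma pgo_indices (hne : ∃ v, Q v ≠ 0) (hQ : (P Q).Nondegenerate) (h2 : (2 : F) ≠ 0) {h : ℕ} (hc : Fintype.card ι = 2 * h)
    (hn : 5 ≤ Fintype.card ι) (d : Sim (⇑Q)) (hd : ¬ IsSquare (mu Q hne d : F)) (hde : eps Q hne hQ h2 hc d = 1) (hneg : NegOm Q) :
    (Cfsg.Inn (Cfsg.POmega F (⇑Q))).relIndex (Cfsg.pgoAut F (⇑Q)) = 8 := by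
  obtain ⟨ψ, hψ1, hψ2⟩ := pgo_pso hne hQ h2 hc hn d hd hde
  have hidx1 : (Cfsg.psoAut F (⇑Q)).relIndex (Cfsg.pgoAut F (⇑Q)) = 4 := by
    rw [Subgroup.relIndex, ← hψ2, Subgroup.index_ker, MonoidHom.range_eq_top.2 hψ1, Subgroup.card_top, Nat.card_eq_fintype_card]
    exact card_mult_four
  have hidx2 := relIndex_two h2 hQ hn hne hneg
  have hle1 : Cfsg.Inn (Cfsg.POmega F (⇑Q)) ≤ Cfsg.psoAut F (⇑Q) := by
    rw [psoAut_eq, Inn_eq]
    exact img_mono (OmegaGL_le_SO h2 hQ)
  have hle2 : Cfsg.psoAut F (⇑Q) ≤ Cfsg.pgoAut F (⇑Q) := by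
    rw [psoAut_eq, pgoAut_eq]
    exact img_mono (special_le_sim _)
  rw [← Subgroup.relIndex_mul_relIndex _ _ _ hle1 hle2, hidx1, hidx2]

/-- The dihedral group. -/
theorem pgo_inn_dih (hne : ∃ v, Q v ≠ 0) (hQ : (P Q).Nondegenerate) (h2 : (2 : F) ≠ 0) {h : ℕ} (hc : Fintype.card ι = 2 * h)
    (hn : 5 ≤ Fintype.card ι) (d : Sim (⇑Q)) (hd : ¬ IsSquare (mu Q hne d : F)) (hde : eps Q hne hQ h2 hc d = 1) (hneg : NegOm Q) :
    ∃ φ : ↥(Cfsg.pgoAut F (⇑Q)) →* DihedralGroup 4, Function.Surjective φ ∧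
      φ.ker = (Cfsg.Inn (Cfsg.POmega F (⇑Q))).subgroupOf (Cfsg.pgoAut F (⇑Q)) := by
  have hmem : ∀ g : Sim (⇑Q), Ψ (⇑Q) g ∈ Cfsg.pgoAut F (⇑Q) := by
    intro g
    rw [pgoAut_eq]
    exact mem_img.2 ⟨g, g.2, rfl⟩
  obtain ⟨v, hv⟩ := id hne
  have hrr : isoSim (reflIso Q v hv) * isoSim (reflIso Q v hv) = 1 := by
    apply Subtype.ext
    have := congrArg Subtype.val (reflIso_mul_self v hv)
    exact this
  exact quotient_dih (Cfsg.pgoAut F (⇑Q)) (Cfsg.Inn (Cfsg.POmega F (⇑Q))) (pgo_indices hne hQ h2 hc hn d hd hde hneg)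
    (Ψ (⇑Q) (isoSim (reflIso Q v hv))) (Ψ (⇑Q) d) (hmem _) (hmem _) (by rw [← map_mul, hrr, map_one])
    (comm_not_inn h2 hQ hn hne hneg d hd v hv)

end main

section final

variable {F : Type*} [Field F] [Fintype F] {m : ℕ}

set_option maxHeartbeats 1000000 in
/-- `PGO/T`, plus type. -/
theorem plus_pgo_inn (hodd : Odd (Fintype.card F)) (hm : 3 ≤ m) :
    ((Odd m ∧ Fintype.card F % 4 = 3) → (∃ φ : ↥(Cfsg.pgoAut F (⇑(Qplus m F))) →* Multiplicative (ZMod 2 × ZMod 2), Function.Surjective φ ∧ φ.ker = (Cfsg.Inn (Cfsg.POmega F (⇑(Qplus m F)))).subgroupOf (Cfsg.pgoAut F (⇑(Qplus m F))))) ∧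
    (¬ (Odd m ∧ Fintype.card F % 4 = 3) → (∃ φ : ↥(Cfsg.pgoAut F (⇑(Qplus m F))) →* DihedralGroup 4, Function.Surjective φ ∧ φ.ker = (Cfsg.Inn (Cfsg.POmega F (⇑(Qplus m F)))).subgroupOf (Cfsg.pgoAut F (⇑(Qplus m F))))) := by
  have h2 := two_ne_of_odd rfl hodd
  have hm1 : 1 ≤ m := by omega
  constructor
  · intro h
    rw [← pso_eq_inn h2 (Qplus_nondeg m) (by rw [card_plus]; exact even_two_mul _) (by
      rw [negOm_plus rfl hodd]
      exact not_not.2 h)]
    exact plus_pgo_pso h2 hm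
  · intro h
    obtain ⟨ν, hν0, hν⟩ := exists_nonsq h2
    exact pgo_inn_dih (ne_plus h2 hm1) (Qplus_nondeg m) h2 card_plus (by rw [card_plus]; omega) (dPlus ν hν0)
      (by rw [mu_dPlus h2 hm1]; exact hν) (eps_dPlus h2 hm1 ν hν0) ((negOm_plus rfl hodd).2 h)

set_option maxHeartbeats 1000000 in
/-- `PGO/T`, minus type. -/
theorem minus_pgo_inn (hodd : Odd (Fintype.card F)) (hm : 2 ≤ m) (a b : F)
    (hab : ∀ z₁ z₂ : F, z₁ ^ 2 + a * z₁ * z₂ + b * z₂ ^ 2 = 0 → z₁ = 0 ∧ z₂ = 0) :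
    ((Even m ∧ Fintype.card F % 4 = 3) → (∃ φ : ↥(Cfsg.pgoAut F (⇑(Qminus m F a b))) →* DihedralGroup 4, Function.Surjective φ ∧ φ.ker = (Cfsg.Inn (Cfsg.POmega F (⇑(Qminus m F a b)))).subgroupOf (Cfsg.pgoAut F (⇑(Qminus m F a b))))) ∧
    (¬ (Even m ∧ Fintype.card F % 4 = 3) → (∃ φ : ↥(Cfsg.pgoAut F (⇑(Qminus m F a b))) →* Multiplicative (ZMod 2 × ZMod 2), Function.Surjective φ ∧ φ.ker = (Cfsg.Inn (Cfsg.POmega F (⇑(Qminus m F a b)))).subgroupOf (Cfsg.pgoAut F (⇑(Qminus m F a b))))) := by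
  have h2 := two_ne_of_odd rfl hodd
  constructor
  · intro h
    obtain ⟨ν, hν0, hν⟩ := exists_nonsq h2
    obtain ⟨s, t, hst⟩ := exists_rep h2 a b hab ν
    have hN : NegOm (Qminus m F a b) := (negOm_minus rfl hodd a b hab).2 h
    have h5 : ¬ IsSquare ((mu _ (ne_minus h2 a b hab) (dMinus a b ν s t hν0 hst : Sim (⇑(Qminus m F a b))) : Fˣ) : F) := by
      rw [mu_dMinus a b hab h2]
      exact hν
    exact pgo_inn_dih (ne_minus h2 a b hab) (Qminus_nondeg hab m) h2 card_minus (by rw [card_minus]; omega) (dMinus a b ν s t hν0 hst)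
      h5 (eps_dMinus a b hab h2 ν s t hν0 hst) hN
  · intro h
    rw [← pso_eq_inn h2 (Qminus_nondeg hab m) (by rw [card_minus]; exact even_two_mul _) (by
      rw [negOm_minus rfl hodd a b hab]
      exact h)]
    exact minus_pgo_pso a b hab h2 hm

end final

end Cfsg.Agent.Lib.Known3.SimAut
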